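import Groth.Agent.Krr.H491.Bott

/-!
# `θ^j` and `λ_{-1}` turn sums into products; augmentations
-/

set_option autoImplicit false
universe v u

open Finset LambdaRing

namespace Groth.Agent.Krr.H491.BottMul

open Groth.Agent.Books.Lambda1 Groth.Agent.Books.Lambda2 Groth.Agent.Books.Lambda3
open Groth.Agent.Krr.H491.Bott

variable {K : Type u} [CommRing K] [LambdaOps K]

/-- splitting of two positive elements, with `Fin`-indexed line elements -/
lemma exists_split_fin₂ (P : PosStructure K) (hK : HasSplitting K P) (e e' : K) (he : e ∈ P.pos)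
    (he' : e' ∈ P.pos) (m m' : ℕ) (hm : (P.aug e).toNat = m) (hm' : (P.aug e').toNat = m') :
    ∃ L' : PosLambdaRing.{u}, HasSplitting L'.carrier L'.posStr ∧
      ∃ f : K →+* L'.carrier, IsExtension P L'.posStr f ∧
      ∃ (a : Fin m → L'.carrier) (b : Fin m' → L'.carrier), (∀ i, L'.posStr.IsLine (a i)) ∧
        (∀ i, L'.posStr.IsLine (b i)) ∧ ∑ i, a i = f e ∧ ∑ i, b i = f e' := by
  obtain ⟨L, hL, f, hf, a, ha, hasum⟩ := exists_split_fin P hK e he m hm
  obtain ⟨L', hL', g, hg, b, hb, hbsum⟩ := exists_split_fin L.posStr hL (f e')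
    (hf.pos_subset _ he') m' (by rw [hf.aug_comp, hm'])
  refine ⟨L', hL', g.comp f, IsExtension_comp hf hg, fun i => g (a i), b,
    fun i => IsLine_map hg (ha i), hb, ?_, hbsum⟩
  rw [← map_sum, hasum]
  rfl

/-- `θ^j` of a line element -/
lemma bott_line (P : PosStructure K) (j : ℕ) (v : K) (hv : P.IsLine v) :
    KRR.bott P j v = ∑ k ∈ Finset.range j, v ^ k := by
  have h := bott_sum_line P j (m := 1) (fun _ => v) (fun _ => hv)
  simpa using h

/-- `θ^j(0) = 1` -/
lemma bott_zero (P : PosStructure K) (j : ℕ) : KRR.bott P j 0 = 1 := by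
  have h := bott_sum_line P j (m := 0) (fun i => (0 : K)) (fun i => i.elim0)
  simpa using h

/-- `θ^j(n) = j^n` -/
lemma bott_natCast (P : PosStructure K) (j n : ℕ) : KRR.bott P j (n : K) = (j : K) ^ n := by
  have h := bott_sum_line P j (m := n) (fun _ => (1 : K)) (fun _ => isLine_one P)
  simpa using h

/-- `θ^j(n u) = (1 + u + ⋯ + u^{j-1})^n` for a line element `u` -/
lemma bott_natCast_mul_line (P : PosStructure K) (j n : ℕ) (v : K) (hv : P.IsLine v) :
    KRR.bott P j ((n : K) * v) = (∑ k ∈ Finset.range j, v ^ k) ^ n := by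
  have h := bott_sum_line P j (m := n) (fun _ => v) (fun _ => hv)
  simpa using h

/-- `θ^j` is multiplicative on sums -/
lemma bott_add (P : PosStructure K) (hK : HasSplitting K P) (j : ℕ) (e e' : K) (he : e ∈ P.pos)
    (he' : e' ∈ P.pos) : KRR.bott P j (e + e') = KRR.bott P j e * KRR.bott P j e' := by
  obtain ⟨L', -, f, hf, a, b, ha, hb, hasum, hbsum⟩ :=
    exists_split_fin₂ P hK e e' he he' _ _ rfl rfl
  apply hf.injective
  rw [map_mul, map_bott hf, map_bott hf, map_bott hf, map_add, ← hasum, ← hbsum,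
    bott_sum_line _ j a ha, bott_sum_line _ j b hb]
  have h := bott_sum_line L'.posStr j (Fin.append a b) (fun i => by
    refine Fin.addCases (fun i => ?_) (fun i => ?_) i
    · rw [Fin.append_left]; exact ha i
    · rw [Fin.append_right]; exact hb i)
  rw [Fin.sum_univ_add, Fin.prod_univ_add] at h
  simpa using h

/-- the augmentation of `θ^j(e)` is `j^{ε(e)}` -/
lemma aug_bott (P : PosStructure K) (hK : HasSplitting K P) (j : ℕ) (e : K) (he : e ∈ P.pos) :
    P.aug (KRR.bott P j e) = (j : ℤ) ^ (P.aug e).toNat := by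
  obtain ⟨L', -, f, hf, u, hu, husum⟩ := exists_split_fin P hK e he _ rfl
  rw [← hf.aug_comp, map_bott hf, ← husum, bott_sum_line _ j u hu, map_prod]
  have h : ∀ i, L'.posStr.aug (∑ k ∈ Finset.range j, u i ^ k) = j := by
    intro i
    rw [map_sum]
    simp [(hu i).2]
  rw [Finset.prod_congr rfl (fun i _ => h i)]
  simp

/-- `λ_{-1}` as the value at `-1` of the `λ`-polynomial cut off anywhere above the augmentation -/
lemma lamAlt_eq_sum (P : PosStructure K) (e : K) (he : e ∈ P.pos) (N : ℕ)
    (hN : (P.aug e).toNat ≤ N) :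
    KRR.lamAlt P e = ∑ i ∈ Finset.range (N + 1), (-1 : K) ^ i * LambdaOps.lam i e := by
  rw [KRR.lamAlt]
  refine Finset.sum_subset (fun i hi => ?_) (fun i _ hi => ?_)
  · simp only [Finset.mem_range] at hi ⊢; omega
  · rw [P.lam_eq_zero e he i, mul_zero]
    have := P.aug_pos e he
    simp only [Finset.mem_range] at hi
    omega

/-- `λ_{-1}` of a line element -/
lemma lamAlt_line (P : PosStructure K) (v : K) (hv : P.IsLine v) : KRR.lamAlt P v = 1 - v := by
  have h := lamAlt_sum_line P (m := 1) (fun _ => v) (fun _ => hv)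
  simpa using h

/-- `λ_{-1}(0) = 1` -/
lemma lamAlt_zero (P : PosStructure K) : KRR.lamAlt P 0 = 1 := by
  have h := lamAlt_sum_line P (m := 0) (fun i => (0 : K)) (fun i => i.elim0)
  simpa using h

/-- `λ_{-1}` is multiplicative on sums -/
lemma lamAlt_add (P : PosStructure K) (hK : HasSplitting K P) (e e' : K) (he : e ∈ P.pos)
    (he' : e' ∈ P.pos) : KRR.lamAlt P (e + e') = KRR.lamAlt P e * KRR.lamAlt P e' := by
  obtain ⟨L', -, f, hf, a, b, ha, hb, hasum, hbsum⟩ :=
    exists_split_fin₂ P hK e e' he he' _ _ rfl rfl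
  apply hf.injective
  rw [map_mul, map_lamAlt hf, map_lamAlt hf, map_lamAlt hf, map_add, ← hasum, ← hbsum,
    lamAlt_sum_line _ a ha, lamAlt_sum_line _ b hb]
  have h := lamAlt_sum_line L'.posStr (Fin.append a b) (fun i => by
    refine Fin.addCases (fun i => ?_) (fun i => ?_) i
    · rw [Fin.append_left]; exact ha i
    · rw [Fin.append_right]; exact hb i)
  rw [Fin.sum_univ_add, Fin.prod_univ_add] at h
  simpa using h

/-- the augmentation of `λ_{-1}(e)` vanishes for `e` positive -/
lemma aug_lamAlt (P : PosStructure K) (hK : HasSplitting K P) (e : K) (he : e ∈ P.pos) :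
    P.aug (KRR.lamAlt P e) = 0 := by
  obtain ⟨L', -, f, hf, u, hu, husum⟩ := exists_split_fin P hK e he _ rfl
  rw [← hf.aug_comp, map_lamAlt hf, ← husum, lamAlt_sum_line _ u hu, map_prod]
  have hpos := P.aug_pos e he
  refine Finset.prod_eq_zero (i := ⟨0, by omega⟩) (Finset.mem_univ _) ?_
  rw [map_sub, map_one, (hu _).2, sub_self]

end Groth.Agent.Krr.H491.BottMul
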