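import Groth.Agent.Krr.H491.Todd
import Groth.Agent.Krr.H491.BottMul
import Mathlib.RingTheory.Flat.Localization

/-!
# `ch(θ^j(e)) · ψ^j(td(e')) = j^m td(e')` for `e'` dual to the positive element `e` of rank `m`
-/

set_option autoImplicit false
universe v

open scoped TensorProduct
open LambdaRing KGr

namespace Groth.Agent.Krr.H491.BottTodd

open Groth.Agent.Books.Lambda1 Groth.Agent.Books.Lambda2 Groth.Agent.Books.Lambda3
open Groth.Agent.Krr.H493.AdamsDiff Groth.Agent.Krr.H493.ChK Groth.Agent.Krr.H493.ChBij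
open Groth.Agent.Krr.H500.GrK Groth.Agent.Krr.H493.GrBasis
open Groth.Agent.Krr.H491.KQ Groth.Agent.Krr.H491.NilEval Groth.Agent.Krr.H491.Todd
open Groth.Agent.Krr.H491.ToddAlg Groth.Agent.Krr.H491.Bott Groth.Agent.Krr.H491.BottMul

section nilp

variable {K : Type v} [CommRing K] [LambdaRing.LambdaOps K] (P : LambdaRing.PosStructure K)

lemma isNilpotent_of_mem_filtration {d : ℕ} (hd : gammaFiltration P (d + 1) = ⊥) (x : K)
    (hx : x ∈ gammaFiltration P 1) : IsNilpotent x := by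
  refine ⟨d + 1, ?_⟩
  have h : ∀ n, x ^ n ∈ gammaFiltration P n := by
    intro n
    induction n with
    | zero => exact mem_filtration_zero P _
    | succ n ih =>
      rw [pow_succ]
      exact mul_mem_filtration P n 1 _ _ ih hx
  have := h (d + 1)
  rwa [hd, AddSubgroup.mem_bot] at this

variable {L : Type v} [CommRing L] [LambdaRing.LambdaOps L] {PL : LambdaRing.PosStructure L}

/-- the roots of a positive element are unipotent when the filtration is finite -/
lemma isNilpotent_root {d : ℕ} (hd : gammaFiltration P (d + 1) = ⊥) {f : K →+* L}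
    (hf : IsExtension P PL f) (e : K) {m : ℕ} (u : Fin m → L)
    (hu : ∀ i, PL.IsLine (u i)) (hsum : ∑ i, u i = f e) (i : Fin m) :
    IsNilpotent (u i - 1) := by
  have haug : P.aug e = m := by
    rw [← hf.aug_comp, ← hsum, aug_sum_line PL u hu]
  have hx0 : P.aug (e - (m : K)) = 0 := by rw [map_sub, haug, map_natCast, sub_self]
  have hgam : ∀ k, ∑ t ∈ Finset.powersetCard k (Finset.univ : Finset (Fin m)),
      ∏ l ∈ t, (u l - 1) = f (gamma k (e - (m : K))) := by
    intro k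
    rw [map_gamma hf.isLambdaHom, map_sub, map_natCast, ← hsum]
    exact (gamma_sum_line PL u hu k).symm
  have h1 : ∏ l, ((u i - 1) - (u l - 1)) = 0 :=
    Finset.prod_eq_zero (Finset.mem_univ i) (sub_self _)
  have h2 : ∏ l, ((u i - 1) - (u l - 1)) =
      ∑ t ∈ (Finset.univ : Finset (Fin m)).powerset,
        (∏ l ∈ t, (-(u l - 1))) * (u i - 1) ^ (m - t.card) := by
    have h3 : ∀ l, (u i - 1) - (u l - 1) = -(u l - 1) + (u i - 1) := fun l => by ring
    rw [Finset.prod_congr rfl (fun l _ => h3 l), Finset.prod_add]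
    apply Finset.sum_congr rfl
    intro t _
    rw [Finset.prod_const, Finset.card_sdiff_of_subset (Finset.subset_univ t),
      Finset.card_univ, Fintype.card_fin]
  rw [h1, Finset.sum_powerset, Finset.card_univ, Fintype.card_fin, Finset.sum_range_succ'] at h2
  have h4 : ∑ t ∈ Finset.powersetCard 0 (Finset.univ : Finset (Fin m)),
      (∏ l ∈ t, (-(u l - 1))) * (u i - 1) ^ (m - t.card) = (u i - 1) ^ m := by
    simp
  rw [h4] at h2
  have h5 : (u i - 1) ^ m ∈ nilradical L := by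
    rw [show (u i - 1) ^ m = -(∑ k ∈ Finset.range m,
      ∑ t ∈ Finset.powersetCard (k + 1) (Finset.univ : Finset (Fin m)),
        (∏ l ∈ t, (-(u l - 1))) * (u i - 1) ^ (m - t.card)) from
      (neg_eq_of_add_eq_zero_right h2.symm).symm]
    apply Ideal.neg_mem_iff _ |>.mpr
    apply Ideal.sum_mem
    intro k _
    have h6 : ∑ t ∈ Finset.powersetCard (k + 1) (Finset.univ : Finset (Fin m)),
        (∏ l ∈ t, (-(u l - 1))) * (u i - 1) ^ (m - t.card) =
        ((-1) ^ (k + 1) * (u i - 1) ^ (m - (k + 1))) * f (gamma (k + 1) (e - (m : K))) := by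
      rw [← hgam, Finset.mul_sum]
      apply Finset.sum_congr rfl
      intro t ht
      rw [Finset.prod_neg, (Finset.mem_powersetCard.mp ht).2]
      ring
    rw [h6]
    apply Ideal.mul_mem_left
    rw [mem_nilradical]
    exact (isNilpotent_of_mem_filtration P hd _ (filtration_anti P (by omega)
      (gamma_mem_filtration P hx0 (k + 1)))).map f
  rw [mem_nilradical] at h5
  obtain ⟨N, hN⟩ := h5
  exact ⟨m * N, by rw [pow_mul, hN]⟩

end nilp

section fQ

variable {K : Type v} [CommRing K] {L : Type v} [CommRing L]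

/-- the rationalisation of a ring homomorphism -/
noncomputable def mapQ (f : K →+* L) : ℚ ⊗[ℤ] K →ₐ[ℚ] ℚ ⊗[ℤ] L :=
  Algebra.TensorProduct.map (AlgHom.id ℚ ℚ) f.toIntAlgHom

lemma mapQ_tmul (f : K →+* L) (q : ℚ) (x : K) : mapQ f (q ⊗ₜ[ℤ] x) = q ⊗ₜ[ℤ] f x := rfl

lemma mapQ_injective {f : K →+* L} (hf : Function.Injective f) :
    Function.Injective (mapQ f) := by
  haveI : Module.Flat ℤ ℚ := IsLocalization.flat ℚ (nonZeroDivisors ℤ)
  have h := Module.Flat.lTensor_preserves_injective_linearMap (M := ℚ)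
    (f.toIntAlgHom.toLinearMap) hf
  exact h

variable [LambdaRing.LambdaOps K] [LambdaRing.LambdaOps L] {P : LambdaRing.PosStructure K}
  {PL : LambdaRing.PosStructure L}

lemma mapQ_psiQ (hK : HasSplitting K P) (hL : HasSplitting L PL) {f : K →+* L}
    (hf : IsExtension P PL f) (j : ℕ) (z : ℚ ⊗[ℤ] K) :
    mapQ f (psiQ P hK j z) = psiQ PL hL j (mapQ f z) := by
  induction z using TensorProduct.induction_on with
  | zero => simp
  | tmul q x =>
    rw [psiQ_tmul, mapQ_tmul, mapQ_tmul, psiQ_tmul, map_adams hf]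
  | add x y hx hy => rw [map_add, map_add, map_add, map_add, hx, hy]

end fQ

section roots

variable {K : Type v} [CommRing K] [LambdaRing.LambdaOps K] {P : LambdaRing.PosStructure K}
  (hK : HasSplitting K P) {d : ℕ} (hd : gammaFiltration P (d + 1) = ⊥)
  {L : Type v} [CommRing L] [LambdaRing.LambdaOps L] {PL : LambdaRing.PosStructure L}
  (hL : HasSplitting L PL) {f : K →+* L} (hf : IsExtension P PL f)

/-- logarithms of unipotent line elements are eigenvectors of the Adams operations -/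
lemma psiQ_log {u : L} (hu : PL.IsLine u) {w : ℚ ⊗[ℤ] L} (hw : IsNilpotent w)
    (hwu : IsNilpotent.exp w = (1 : ℚ) ⊗ₜ[ℤ] u) (j : ℕ) :
    psiQ PL hL j w = (j : ℚ) • w := by
  apply exp_injective (hw.map (psiQ PL hL j)) (hw.smul (j : ℚ))
  rw [exp_natCast_smul hw, hwu, ← ev_exp (hw.map (psiQ PL hL j)), ← map_ev _ hw, ev_exp hw, hwu,
    psiQ_tmul, adams_line PL u hu, Algebra.TensorProduct.tmul_pow, one_pow]

/-- the components of the Chern character through the roots -/
lemma mapQ_ch {ι : Type*} [Fintype ι] (w : ι → ℚ ⊗[ℤ] L) (hw : ∀ i, IsNilpotent (w i))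
    (hψ : ∀ i, psiQ PL hL 2 (w i) = (2 : ℚ) • w i) (x : K)
    (hx : (1 : ℚ) ⊗ₜ[ℤ] f x = ∑ i, IsNilpotent.exp (w i)) (n : ℕ)
    (hf : IsExtension P PL f) :
    mapQ f ((PhiA P hK hd).symm (ch P hK n x)) = ((n.factorial : ℚ)⁻¹) • ∑ i, w i ^ n := by
  classical
  have hw' := hw
  choose N hN using hw'
  let M := max (d + 1) (Finset.univ.sup N) + n + 1
  have hNM : ∀ i, w i ^ M = 0 := fun i =>
    pow_eq_zero_of_le (by
      have := Finset.le_sup (f := N) (Finset.mem_univ i)
      omega) (hN i)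
  have h1 : ∑ k ∈ Finset.range M, mapQ f ((PhiA P hK hd).symm (ch P hK k x)) =
      (1 : ℚ) ⊗ₜ[ℤ] f x := by
    rw [← map_sum, ← map_sum, ← mapQ_tmul f 1 x]
    congr 1
    apply (PhiA P hK hd).injective
    rw [AlgEquiv.apply_symm_apply, PhiA_one_tmul, ← chHom_apply P hK, chHom_eq_sum]
    symm
    apply Finset.sum_subset
    · intro i hi
      simp only [Finset.mem_range] at hi ⊢
      omega
    · intro k _ hk
      exact eq_zero_of_mem_HomG hd (by simpa using hk) (ch_mem_HomG P hK k x)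
  have h2 : ∑ k ∈ Finset.range M, ((k.factorial : ℚ)⁻¹) • ∑ i, w i ^ k =
      (1 : ℚ) ⊗ₜ[ℤ] f x := by
    rw [hx]
    simp only [Finset.smul_sum]
    rw [Finset.sum_comm]
    apply Finset.sum_congr rfl
    intro i _
    rw [IsNilpotent.exp_eq_sum (hNM i)]
  have h3 : ∑ k ∈ Finset.range M, (mapQ f ((PhiA P hK hd).symm (ch P hK k x)) -
      ((k.factorial : ℚ)⁻¹) • ∑ i, w i ^ k) = 0 := by
    rw [Finset.sum_sub_distrib, h1, h2, sub_self]
  have h4 := eq_zero_of_sum_eq_zero (V := ℚ ⊗[ℤ] L) (psiQ PL hL 2).toLinearMap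
    (fun k => (2 : ℚ) ^ k) (fun a b hab h => hab (by
      have h' : (2 : ℕ) ^ a = 2 ^ b := by exact_mod_cast h
      exact Nat.pow_right_injective le_rfl h')) M _ (fun k _ => ?_) h3 n (by omega)
  · exact sub_eq_zero.mp h4
  · change psiQ PL hL 2 _ = _
    rw [map_sub, ← mapQ_psiQ hK hL hf, psiQ_of_mem_HomG P hK hd 2 k, map_smul, map_smul,
      map_sum, smul_sub]
    · congr 1
      rw [smul_comm]
      congr 1
      rw [Finset.smul_sum]
      apply Finset.sum_congr rfl
      intro i _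
      rw [map_pow, hψ, smul_pow]
    · rw [← PhiA_apply, AlgEquiv.apply_symm_apply]
      exact ch_mem_HomG P hK k x

/-- the Todd class through the roots -/
lemma mapQ_tdK {ι : Type*} [Fintype ι] (w : ι → ℚ ⊗[ℤ] L) (hw : ∀ i, IsNilpotent (w i))
    (hψ : ∀ i, psiQ PL hL 2 (w i) = (2 : ℚ) • w i) (x : K)
    (hx : (1 : ℚ) ⊗ₜ[ℤ] f x = ∑ i, IsNilpotent.exp (w i)) (hf : IsExtension P PL f) :
    mapQ f ((PhiA P hK hd).symm (tdK P d x)) = ∏ i, ev (w i) (hw i) bet := by
  refine map_tdK P ((mapQ f).comp (PhiA P hK hd).symm.toAlgHom) w hw x ?_ hK hd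
  intro n _
  change mapQ f ((PhiA P hK hd).symm (ps P n x)) = _
  have h2 : (n.factorial : ℚ) ≠ 0 := by positivity
  rw [ps_eq_smul_ch P hK, map_smul, map_smul, mapQ_ch hK hd hL w hw hψ x hx n hf, smul_smul,
    mul_inv_cancel₀ h2, one_smul]

end roots

section esymm

variable {R : Type*} [CommRing R]

/-- `Σ_i Π_{l ≠ i} u_l` is the elementary symmetric function of degree `m - 1` -/
lemma sum_powersetCard_pred {m : ℕ} (hm : 1 ≤ m) (u : Fin m → R) :
    ∑ t ∈ Finset.powersetCard (m - 1) (Finset.univ : Finset (Fin m)), ∏ i ∈ t, u i =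
      ∑ i, ∏ l ∈ Finset.univ.erase i, u l := by
  symm
  refine Finset.sum_bij (fun i _ => Finset.univ.erase i) ?_ ?_ ?_ ?_
  · intro i _
    rw [Finset.mem_powersetCard]
    refine ⟨Finset.subset_univ _, ?_⟩
    rw [Finset.card_erase_of_mem (Finset.mem_univ i), Finset.card_univ, Fintype.card_fin]
  · intro i _ j _ h
    exact Finset.erase_injOn _ (Finset.mem_coe.mpr (Finset.mem_univ i))
      (Finset.mem_coe.mpr (Finset.mem_univ j)) h
  · intro t ht
    rw [Finset.mem_powersetCard] at ht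
    have h1 : tᶜ.card = 1 := by
      rw [Finset.card_compl, Fintype.card_fin, ht.2]
      omega
    obtain ⟨i, hi⟩ := Finset.card_eq_one.mp h1
    refine ⟨i, Finset.mem_univ i, ?_⟩
    rw [← compl_compl t, hi]
    ext l
    simp
  · intro i _
    rfl

end esymm

section main

variable {K : Type v} [CommRing K] [LambdaRing.LambdaOps K] {P : LambdaRing.PosStructure K}
  (hK : HasSplitting K P) {d : ℕ} (hd : gammaFiltration P (d + 1) = ⊥)

/-- **Bott's class and the Todd class**: for `e` positive of rank `m` and `e'` dual to `e`,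
`ch(θ^j(e)) ψ^j(td(e')) = j^m td(e')` in `ℚGr K`. -/
theorem chK_bott_mul (e e' : K) (he : e ∈ P.pos) {m : ℕ} (hm : P.aug e = m)
    (hdual : e' * LambdaOps.lam m e = LambdaOps.lam (m - 1) e) (j : ℕ) :
    chK P d (KRR.bott P j e) * psiG P hK hd j (tdK P d e') =
      ((j : ℚ) ^ m) • tdK P d e' := by
  classical
  have hm1 : 1 ≤ m := by
    have := P.aug_pos e he
    omega
  obtain ⟨L', hL, f, hf, u, hu, husum⟩ := exists_split_fin P hK e he m (by rw [hm]; simp)
  have hnil : ∀ i, IsNilpotent (u i - 1) := isNilpotent_root P hd hf e u hu husum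
  have hlog : ∀ i, ∃ w : ℚ ⊗[ℤ] L'.carrier, IsNilpotent w ∧
      IsNilpotent.exp w = (1 : ℚ) ⊗ₜ[ℤ] u i := by
    intro i
    apply exists_log'
    have h1 : ((1 : ℚ) ⊗ₜ[ℤ] u i - 1 : ℚ ⊗[ℤ] L'.carrier) = (1 : ℚ) ⊗ₜ[ℤ] (u i - 1) := by
      rw [TensorProduct.tmul_sub]
      rfl
    rw [h1]
    exact (hnil i).map (Algebra.TensorProduct.includeRight : L'.carrier →ₐ[ℤ] ℚ ⊗[ℤ] L'.carrier)
  choose w hw hwu using hlog
  have hψ : ∀ (j : ℕ) i, psiQ L'.posStr hL j (w i) = (j : ℚ) • w i := fun j i =>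
    psiQ_log hL (hu i) (hw i) (hwu i) j
  -- the roots of the dual
  have hdual' : (1 : ℚ) ⊗ₜ[ℤ] f e' = ∑ i, IsNilpotent.exp (-(w i)) := by
    have h1 := congrArg f hdual
    rw [map_mul, hf.isLambdaHom, hf.isLambdaHom, ← husum, lam_sum_line _ u hu,
      lam_sum_line _ u hu, sum_powersetCard_pred hm1] at h1
    have h2 : Finset.powersetCard m (Finset.univ : Finset (Fin m)) = {Finset.univ} := by
      have := Finset.powersetCard_self (Finset.univ : Finset (Fin m))
      rwa [Finset.card_univ, Fintype.card_fin] at this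
    rw [h2, Finset.sum_singleton] at h1
    have h3 := congrArg (fun z => (1 : ℚ) ⊗ₜ[ℤ] z) h1
    have h4 : ∀ (s : Finset (Fin m)), ((1 : ℚ) ⊗ₜ[ℤ] ∏ i ∈ s, u i : ℚ ⊗[ℤ] L'.carrier) =
        ∏ i ∈ s, IsNilpotent.exp (w i) := by
      intro s
      have := map_prod (Algebra.TensorProduct.includeRight :
        L'.carrier →ₐ[ℤ] ℚ ⊗[ℤ] L'.carrier) u s
      rw [Finset.prod_congr rfl (fun i _ => hwu i)]
      exact this
    have h5 : ((1 : ℚ) ⊗ₜ[ℤ] (f e' * ∏ i, u i) : ℚ ⊗[ℤ] L'.carrier) =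
        ((1 : ℚ) ⊗ₜ[ℤ] f e') * ∏ i, IsNilpotent.exp (w i) := by
      rw [← h4, Algebra.TensorProduct.tmul_mul_tmul, one_mul]
    rw [h5, TensorProduct.tmul_sum] at h3
    have h6 : IsUnit (∏ i, IsNilpotent.exp (w i)) := by
      rw [IsUnit.prod_univ_iff]
      intro i
      exact isUnit_iff_exists_inv.mpr ⟨_, exp_mul_exp_neg (hw i)⟩
    apply h6.mul_right_cancel
    rw [h3, Finset.sum_mul]
    apply Finset.sum_congr rfl
    intro i _
    rw [h4, ← Finset.mul_prod_erase _ _ (Finset.mem_univ i), ← mul_assoc, exp_neg_mul (hw i),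
      one_mul]
  have htd : mapQ f ((PhiA P hK hd).symm (tdK P d e')) =
      ∏ i, ev (-(w i)) (hw i).neg bet := by
    refine mapQ_tdK hK hd hL (fun i => -(w i)) (fun i => (hw i).neg) ?_ e' hdual' hf
    intro i
    have := hψ 2 i
    rw [map_neg, this, smul_neg]
    simp
  have hbott : mapQ f ((1 : ℚ) ⊗ₜ[ℤ] KRR.bott P j e) =
      ∏ i, ∑ k ∈ Finset.range j, IsNilpotent.exp (w i) ^ k := by
    rw [mapQ_tmul, map_bott hf, ← husum, bott_sum_line _ j u hu]
    have := map_prod (Algebra.TensorProduct.includeRight :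
        L'.carrier →ₐ[ℤ] ℚ ⊗[ℤ] L'.carrier) (fun i => ∑ k ∈ Finset.range j, u i ^ k)
        Finset.univ
    refine this.trans ?_
    apply Finset.prod_congr rfl
    intro i _
    rw [map_sum]
    apply Finset.sum_congr rfl
    intro k _
    rw [map_pow, hwu]
    rfl
  obtain ⟨z, hz⟩ := (PhiA P hK hd).surjective (tdK P d e')
  rw [← hz, AlgEquiv.symm_apply_apply] at htd
  rw [← hz, psiG_PhiA, ← PhiA_one_tmul P hK hd, ← map_mul, ← map_smul]
  congr 1
  apply mapQ_injective hf.injective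
  rw [map_mul, map_smul, hbott, mapQ_psiQ hK hL hf, htd, map_prod, ← Finset.prod_mul_distrib]
  have h7 : ∀ i, (∑ k ∈ Finset.range j, IsNilpotent.exp (w i) ^ k) *
      psiQ L'.posStr hL j (ev (-(w i)) (hw i).neg bet) =
      (j : ℚ) • ev (-(w i)) (hw i).neg bet := by
    intro i
    rw [map_ev]
    have h8 := geom_exp_mul_ev (hw i) j
    have h9 : psiQ L'.posStr hL j (-(w i)) = (-(j : ℚ)) • w i := by
      rw [map_neg, hψ, neg_smul]
    rw [ev_congr h9, h8]
    rw [ev_congr (show (-1 : ℚ) • w i = -(w i) by simp), Nat.cast_smul_eq_nsmul, nsmul_eq_mul]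
  rw [Finset.prod_congr rfl (fun i _ => h7 i), Finset.prod_smul, Finset.prod_const,
    Finset.card_univ, Fintype.card_fin]

end main

end Groth.Agent.Krr.H491.BottTodd
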