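import Groth.Prelude.Def_KRR
import Groth.Agent.Books.Lambda3

/-!
# Bott's cannibalistic class and `λ_{-1}` on a sum of line elements
-/

set_option autoImplicit false
universe v u

open Finset LambdaRing

namespace Groth.Agent.Krr.H491.Bott

open Groth.Agent.Books.Lambda1 Groth.Agent.Books.Lambda2 Groth.Agent.Books.Lambda3

variable {K : Type u} [CommRing K] [LambdaOps K]

/-- `λ_t` of a finite sum -/
lemma lamSeries_sum {ι : Type*} (s : Finset ι) (x : ι → K) :
    lamSeries (∑ i ∈ s, x i) = ∏ i ∈ s, lamSeries (x i) := by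
  classical
  induction s using Finset.induction_on with
  | empty => simp [lamSeries_zero]
  | insert a s ha ih => rw [Finset.sum_insert ha, Finset.prod_insert ha, lamSeries_add, ih]

/-- the `λ`-operations of a sum of line elements are the elementary symmetric functions -/
lemma lam_sum_line (P : PosStructure K) {m : ℕ} (u : Fin m → K) (hu : ∀ i, P.IsLine (u i))
    (k : ℕ) : LambdaOps.lam k (∑ i, u i) =
      ∑ t ∈ Finset.powersetCard k (Finset.univ : Finset (Fin m)), ∏ i ∈ t, u i := by
  rw [← coeff_lamSeries, lamSeries_sum]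
  have h2 : ∏ i : Fin m, lamSeries (u i) =
      ∏ i : Fin m, (1 + PowerSeries.C (u i) * PowerSeries.X) :=
    Finset.prod_congr rfl (fun i _ => lamSeries_line P (u i) (hu i))
  rw [h2, Finset.prod_one_add, map_sum]
  have h3 : ∀ t : Finset (Fin m), PowerSeries.coeff k
      (∏ i ∈ t, (PowerSeries.C (u i) * PowerSeries.X)) =
      if t.card = k then ∏ i ∈ t, u i else 0 := by
    intro t
    rw [Finset.prod_mul_distrib, ← map_prod, Finset.prod_const, PowerSeries.coeff_C_mul,
      PowerSeries.coeff_X_pow]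
    split_ifs with h h' h'
    · simp
    · exact absurd h.symm h'
    · exact absurd h'.symm h
    · simp
  simp only [h3]
  rw [← Finset.sum_filter]
  apply Finset.sum_congr
  · ext t
    simp [Finset.mem_powersetCard]
  · intros; rfl

/-- the augmentation of a sum of line elements -/
lemma aug_sum_line (P : PosStructure K) {m : ℕ} (u : Fin m → K) (hu : ∀ i, P.IsLine (u i)) :
    P.aug (∑ i, u i) = m := by
  rw [map_sum, Finset.sum_congr rfl (fun i _ => (hu i).2)]
  simp

/-- `Σ_{i ≤ m} (-1)^i e_i(u) = Π (1 - u_i)` -/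
lemma sum_neg_one_pow_mul_esymm {R : Type*} [CommRing R] {m : ℕ} (u : Fin m → R) :
    ∑ k ∈ Finset.range (m + 1), (-1 : R) ^ k *
        ∑ t ∈ Finset.powersetCard k (Finset.univ : Finset (Fin m)), ∏ i ∈ t, u i =
      ∏ i, (1 - u i) := by
  have h : ∏ i, (1 - u i) = ∏ i : Fin m, (1 + -u i) := by simp [sub_eq_add_neg]
  rw [h, Finset.prod_one_add]
  have h2 : ∀ k, (-1 : R) ^ k *
      ∑ t ∈ Finset.powersetCard k (Finset.univ : Finset (Fin m)), ∏ i ∈ t, u i =
      ∑ t ∈ Finset.powersetCard k (Finset.univ : Finset (Fin m)), ∏ i ∈ t, (-u i) := by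
    intro k
    rw [Finset.mul_sum]
    refine Finset.sum_congr rfl fun t ht => ?_
    rw [Finset.prod_neg, (Finset.mem_powersetCard.mp ht).2]
  rw [Finset.sum_congr rfl (fun k _ => h2 k), Finset.sum_powerset]
  simp

/-- `λ_{-1}` of (an element with the augmentation and the `λ`-operations of) a sum of lines -/
lemma lamAlt_sum_line (P : PosStructure K) {m : ℕ} (u : Fin m → K) (hu : ∀ i, P.IsLine (u i)) :
    KRR.lamAlt P (∑ i, u i) = ∏ i, (1 - u i) := by
  rw [KRR.lamAlt, aug_sum_line P u hu, Int.toNat_natCast, ← sum_neg_one_pow_mul_esymm]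
  exact Finset.sum_congr rfl fun k _ => by rw [lam_sum_line P u hu]

lemma aeval_bottPoly {R : Type*} [CommRing R] (j m : ℕ) (u : Fin m → R) :
    MvPolynomial.aeval (fun i : Fin m =>
      ∑ t ∈ Finset.powersetCard (i.1 + 1) (Finset.univ : Finset (Fin m)), ∏ l ∈ t, u l)
      (KRR.bottPoly j m) = ∏ i, ∑ k ∈ Finset.range j, u i ^ k := by
  have h1 : MvPolynomial.aeval (fun i : Fin m => MvPolynomial.esymm (Fin m) ℤ (i + 1))
      (KRR.bottPoly j m) = KRR.bottSym j m := by
    rw [← MvPolynomial.esymmAlgHom_apply]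
    have h2 := (MvPolynomial.esymmAlgEquiv (Fin m) ℤ (Fintype.card_fin m)).apply_symm_apply
      ⟨KRR.bottSym j m, KRR.bottSym_isSymmetric j m⟩
    exact congrArg Subtype.val h2
  have h3 : (fun i : Fin m =>
      ∑ t ∈ Finset.powersetCard (i.1 + 1) (Finset.univ : Finset (Fin m)), ∏ l ∈ t, u l) =
      fun i : Fin m => MvPolynomial.aeval u (MvPolynomial.esymm (Fin m) ℤ (i + 1)) := by
    ext1 i
    rw [MvPolynomial.esymm, map_sum]
    refine Finset.sum_congr rfl fun t _ => ?_
    rw [map_prod]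
    simp only [MvPolynomial.aeval_X]
  rw [h3]
  have h4 : MvPolynomial.aeval (fun i : Fin m => MvPolynomial.aeval u
      (MvPolynomial.esymm (Fin m) ℤ (i + 1))) (KRR.bottPoly j m) =
      MvPolynomial.aeval u
        (MvPolynomial.aeval (fun i : Fin m => MvPolynomial.esymm (Fin m) ℤ (i + 1))
          (KRR.bottPoly j m)) := by
    rw [← AlgHom.comp_apply, MvPolynomial.comp_aeval]
  rw [h4, h1, KRR.bottSym, map_prod]
  refine Finset.prod_congr rfl fun i _ => ?_
  rw [map_sum]
  simp

/-- Bott's class of a sum of lines -/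
lemma bott_sum_line (P : PosStructure K) (j : ℕ) {m : ℕ} (u : Fin m → K)
    (hu : ∀ i, P.IsLine (u i)) :
    KRR.bott P j (∑ i, u i) = ∏ i, ∑ k ∈ Finset.range j, u i ^ k := by
  have key : ∀ (n : ℕ), n = m → MvPolynomial.aeval (fun i : Fin n =>
      LambdaOps.lam (i.1 + 1) (∑ i, u i)) (KRR.bottPoly j n) =
        ∏ i, ∑ k ∈ Finset.range j, u i ^ k := by
    rintro n rfl
    rw [← aeval_bottPoly j n u]
    congr 2
    ext1 i
    rw [lam_sum_line P u hu]
  exact key _ (by rw [aug_sum_line P u hu, Int.toNat_natCast])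

section ext

variable {K' : Type u} [CommRing K'] [LambdaOps K']

/-- `λ_{-1}` commutes with extensions -/
lemma map_lamAlt {P : PosStructure K} {P' : PosStructure K'} {f : K →+* K'}
    (hf : IsExtension P P' f) (x : K) : f (KRR.lamAlt P x) = KRR.lamAlt P' (f x) := by
  rw [KRR.lamAlt, KRR.lamAlt, map_sum, hf.aug_comp]
  refine Finset.sum_congr rfl fun i _ => ?_
  rw [map_mul, map_pow, map_neg, map_one, hf.isLambdaHom]

/-- Bott's class commutes with extensions -/
lemma map_bott {P : PosStructure K} {P' : PosStructure K'} {f : K →+* K'}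
    (hf : IsExtension P P' f) (j : ℕ) (x : K) : f (KRR.bott P j x) = KRR.bott P' j (f x) := by
  have h1 : f (KRR.bott P j x) = MvPolynomial.aeval (fun i : Fin (P.aug x).toNat =>
      LambdaOps.lam (i.1 + 1) (f x)) (KRR.bottPoly j (P.aug x).toNat) := by
    rw [KRR.bott]
    have h2 : f.toIntAlgHom.comp (MvPolynomial.aeval (fun i : Fin (P.aug x).toNat =>
        LambdaOps.lam (i.1 + 1) x)) = MvPolynomial.aeval (fun i : Fin (P.aug x).toNat =>
        LambdaOps.lam (i.1 + 1) (f x)) := by
      rw [MvPolynomial.comp_aeval]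
      congr 1
      ext1 i
      exact hf.isLambdaHom _ _
    rw [← h2]
    rfl
  rw [h1, KRR.bott, hf.aug_comp]

end ext

/-- `ψ^j(λ_{-1}(e)) = λ_{-1}(e) θ^j(e)` -/
theorem adams_lamAlt (P : PosStructure K) (hK : HasSplitting K P) (e : K) (he : e ∈ P.pos)
    (j : ℕ) : adams P j (KRR.lamAlt P e) = KRR.lamAlt P e * KRR.bott P j e := by
  obtain ⟨L', hKL, f, hf, u, hu, husum⟩ := exists_split_fin P hK e he _ rfl
  apply hf.injective
  rw [map_adams hf, map_mul, map_lamAlt hf, map_bott hf, ← husum, lamAlt_sum_line _ u hu,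
    bott_sum_line _ j u hu, ← Finset.prod_mul_distrib]
  change adamsRingHom L'.posStr hKL j _ = _
  rw [map_prod]
  refine Finset.prod_congr rfl fun i _ => ?_
  rw [map_sub, map_one, adamsRingHom_apply, adams_line _ _ (hu i), mul_comm, geom_sum_mul_neg]

end Groth.Agent.Krr.H491.Bott
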