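import Groth.Agent.Krr.H491.BottTodd
import Groth.Agent.Krr.H462.GrMap
import Mathlib.RingTheory.Localization.BaseChange

/-!
# The Todd-theoretic input of the Grothendieck–Riemann–Roch theorem

* `psiG_eq_scal`: the Adams operation on `ℚGr K` is the operator `scal`;
* `degProj_zero_tdK`: the Todd class has constant term `1`;
* `chK_bott_mul_scal`, `chK_bott_zero`: the relation between Bott's class and the Todd class;
* `line_dual`: the multiples of a line element and of its inverse are dual;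
* `tdK_mul_chK`: the multiplier of the Adams–Riemann–Roch theorem is the twist of the Todd class;
* `exists_multiplier`: clearing the powers of `j` in the Adams–Riemann–Roch theorem over `ℤ[1/j]`.
-/

set_option autoImplicit false
universe v w

open scoped TensorProduct
open LambdaRing KGr

namespace Groth.Agent.Krr.H491.GRRInput

open Groth.Agent.Books.Lambda1 Groth.Agent.Books.Lambda2 Groth.Agent.Books.Lambda3
open Groth.Agent.Krr.H493.AdamsDiff Groth.Agent.Krr.H493.ChK Groth.Agent.Krr.H493.ChBij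
open Groth.Agent.Krr.H500.GrK Groth.Agent.Krr.H493.GrBasis
open Groth.Agent.Krr.H491.KQ Groth.Agent.Krr.H491.NilEval Groth.Agent.Krr.H491.Todd
open Groth.Agent.Krr.H491.ToddAlg Groth.Agent.Krr.H491.Bott Groth.Agent.Krr.H491.BottMul
open Groth.Agent.Krr.H491.BottTodd
open Groth.Agent.Krr.H462.GrMap

section deg

variable {K : Type v} [CommRing K] [LambdaRing.LambdaOps K] (P : LambdaRing.PosStructure K)

lemma degProj_of_mem_HomG {n m : ℕ} {z : Gr P} (hz : z ∈ HomG P n) :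
    degProj P (m : ℤ) z = if n = m then z else 0 := by
  refine HomG_induction P (motive := fun z => degProj P (m : ℤ) z = if n = m then z else 0)
    ?_ ?_ ?_ ?_ hz
  · simp
  · intro a b ha hb
    rw [map_add, ha, hb]
    split_ifs <;> simp
  · intro q a ha
    rw [map_smul, ha]
    split_ifs <;> simp
  · intro x hx
    rw [degProj_grK _ _ (mem_QF_of_mem (by simpa using hx))]
    by_cases h : n = m
    · rw [if_pos h, if_pos (by exact_mod_cast h)]
    · rw [if_neg h, if_neg (by exact_mod_cast h)]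

variable {P} in
/-- The Adams operation on `ℚGr K` is `scal`. -/
lemma psiG_eq_scal (hK : HasSplitting K P) {d : ℕ} (hd : gammaFiltration P (d + 1) = ⊥) (j : ℕ)
    (z : Gr P) : psiG P hK hd j z = scal P (j : ℚ) z := by
  have h : ∀ n, ∀ w ∈ HomG P n, psiG P hK hd j w = scal P (j : ℚ) w := by
    intro n w hw
    rw [psiG_of_mem P hK hd j n hw]
    apply ext_degProj hd
    intro m _
    rw [map_smul, degProj_scal, degProj_of_mem_HomG P hw, Int.toNat_natCast]
    split_ifs with h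
    · rw [h]
    · rw [smul_zero, smul_zero]
  rw [eq_sum_proj hd z, map_sum, map_sum]
  exact Finset.sum_congr rfl fun n _ => h n _ (proj_mem_HomG P n z)

variable {P} in
/-- The constant term of the Todd class is `1`. -/
lemma degProj_zero_tdK {d : ℕ} (hd : gammaFiltration P (d + 1) = ⊥) (x : K) :
    degProj P 0 (tdK P d x) = 1 := by
  have h := aeval_eq_sum (isGr P hd) (fun i : Fin d => chern P (i.1 + 1) x)
    (fun i => chern_mem_HomG P _ x) (KGr.toddPoly d)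
  have h2 := coeff_scEv_mem (isGr P hd) (fun i : Fin d => chern P (i.1 + 1) x)
    (fun i => chern_mem_HomG P _ x) (KGr.toddPoly d)
  change degProj P 0 (MvPolynomial.aeval _ _) = 1
  rw [h, map_sum, Finset.sum_eq_single 0]
  · have := degProj_of_mem_HomG (m := 0) P (h2 0)
    rw [if_pos rfl, Nat.cast_zero] at this
    rw [this, coeff_zero_scEv_toddPoly]
  · intro n _ hn
    have := degProj_of_mem_HomG (m := 0) P (h2 n)
    rwa [if_neg hn, Nat.cast_zero] at this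
  · intro h0
    exact absurd (Finset.mem_range.mpr (Nat.succ_pos d)) h0

end deg

section line

variable {K : Type v} [CommRing K] [LambdaRing.LambdaOps K] {P : LambdaRing.PosStructure K}
  (hK : HasSplitting K P)

/-- positive multiples of a positive element are positive -/
lemma natCast_mul_pos {r : ℕ} (hr : 1 ≤ r) {x : K} (hx : x ∈ P.pos) : (r : K) * x ∈ P.pos := by
  induction r, hr using Nat.le_induction with
  | base => rwa [Nat.cast_one, one_mul]
  | succ n _ ih =>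
    rw [Nat.cast_succ, add_mul, one_mul]
    exact P.add_mem _ _ ih hx

lemma aug_natCast_mul_line {r : ℕ} {v : K} (hv : P.IsLine v) :
    P.aug ((r : K) * v) = (r : ℤ) := by
  rw [map_mul, hv.2, mul_one, map_natCast]

/-- The multiples of a line element `v` and of its inverse `u` are dual to each other. -/
lemma line_dual {n : ℕ} {u v : K} (hv : P.IsLine v) (huv : u * v = 1) :
    (((n + 1 : ℕ) : K) * u) * LambdaOps.lam (n + 1) (((n + 1 : ℕ) : K) * v) =
      LambdaOps.lam n (((n + 1 : ℕ) : K) * v) := by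
  have h1 : (((n + 1 : ℕ) : K) * v) = ∑ _i : Fin (n + 1), v := by simp
  rw [h1, lam_sum_line P (fun _ : Fin (n + 1) => v) (fun _ => hv),
    lam_sum_line P (fun _ : Fin (n + 1) => v) (fun _ => hv)]
  have h2 : ∀ k, ∑ t ∈ Finset.powersetCard k (Finset.univ : Finset (Fin (n + 1))),
      ∏ _i ∈ t, v = ((n + 1).choose k : K) * v ^ k := by
    intro k
    rw [Finset.sum_congr rfl (g := fun _ => v ^ k) (fun t ht => by
      rw [Finset.prod_const, (Finset.mem_powersetCard.mp ht).2]), Finset.sum_const,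
      Finset.card_powersetCard, Finset.card_univ, Fintype.card_fin, nsmul_eq_mul]
  rw [h2, h2, Nat.choose_self, Nat.choose_succ_self_right, pow_succ, Nat.cast_one, one_mul]
  calc ((n + 1 : ℕ) : K) * u * (v ^ n * v) = ((n + 1 : ℕ) : K) * v ^ n * (u * v) := by ring
    _ = _ := by rw [huv, mul_one]

end line

section todd

variable {K : Type v} [CommRing K] [LambdaRing.LambdaOps K] {P : LambdaRing.PosStructure K}
  (hK : HasSplitting K P) {d : ℕ} (hd : gammaFiltration P (d + 1) = ⊥)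

include hK hd

/-- **Bott's class and the Todd class**, with `scal`. -/
theorem chK_bott_mul_scal (e e' : K) (he : e ∈ P.pos) {m : ℕ} (hm : P.aug e = m)
    (hdual : e' * LambdaOps.lam m e = LambdaOps.lam (m - 1) e) (j : ℕ) :
    chK P d (KRR.bott P j e) * scal P (j : ℚ) (tdK P d e') =
      ((j : ℚ) ^ m) • tdK P d e' := by
  rw [← psiG_eq_scal hK hd]
  exact chK_bott_mul hK hd e e' he hm hdual j

/-- The case of rank `0`. -/
lemma chK_bott_zero (j : ℕ) :
    chK P d (KRR.bott P j 0) * scal P (j : ℚ) (tdK P d 0) = tdK P d 0 := by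
  have h0 : tdK P d (0 : K) = 1 := by
    have := tdK_natCast P hK hd 0
    rwa [Nat.cast_zero] at this
  rw [bott_zero, chK_one P hK hd, h0, map_one, one_mul]

/-- The conormal class in the two possible cases: positive with its dual, or zero. -/
lemma chK_bott_cases {c : ℕ} {e e' : K}
    (he : (e ∈ P.pos ∧ P.aug e = c ∧ e' * LambdaOps.lam c e = LambdaOps.lam (c - 1) e) ∨
      (c = 0 ∧ e = 0 ∧ e' = 0)) (j : ℕ) :
    chK P d (KRR.bott P j e) * scal P (j : ℚ) (tdK P d e') =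
      ((j : ℚ) ^ c) • tdK P d e' := by
  rcases he with ⟨h1, h2, h3⟩ | ⟨rfl, rfl, rfl⟩
  · exact chK_bott_mul_scal hK hd e e' h1 h2 h3 j
  · rw [chK_bott_zero hK hd, pow_zero, one_smul]

/-- **The Todd class twists the multiplier of the Adams–Riemann–Roch theorem.**
`q` of rank `n + 1` with dual `q'`, `e` of rank `c` with dual `e'`, and
`ch μ · ch θ^j(q) = j M ch θ^j(e)`; then `td(T) ch(μ) = M j^{c - n} ψ^j(td T)` for
`T = q' - 1 - e'`. -/
theorem tdK_mul_chK {n c : ℕ} {q q' e e' : K} (hq : q ∈ P.pos) (hqa : P.aug q = ((n + 1 : ℕ) : ℤ))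
    (hqd : q' * LambdaOps.lam (n + 1) q = LambdaOps.lam n q)
    (he : (e ∈ P.pos ∧ P.aug e = c ∧ e' * LambdaOps.lam c e = LambdaOps.lam (c - 1) e) ∨
      (c = 0 ∧ e = 0 ∧ e' = 0)) {j : ℕ} (hj : 1 ≤ j) {μ : K} {M : ℕ}
    (hμ : chK P d μ * chK P d (KRR.bott P j q) =
      ((j : ℚ) * (M : ℚ)) • chK P d (KRR.bott P j e)) :
    tdK P d (q' - 1 - e') * chK P d μ =
      ((M : ℚ) * (j : ℚ) ^ ((c : ℤ) - n)) • scal P (j : ℚ) (tdK P d (q' - 1 - e')) := by
  have hj0 : (j : ℚ) ≠ 0 := by positivity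
  have hQ := chK_bott_mul_scal hK hd q q' hq hqa (by simpa using hqd) j
  have hC := chK_bott_cases hK hd he j
  have h1 : tdK P d (q' - 1 - e') * tdK P d e' = tdK P d q' := by
    rw [← tdK_add P hK hd, sub_add_cancel]
    have h2 := tdK_add P hK hd (q' - 1) 1
    have h3 := tdK_natCast P hK hd 1
    rw [Nat.cast_one] at h3
    rw [sub_add_cancel, h3, mul_one] at h2
    exact h2.symm
  set τ := tdK P d (q' - 1 - e') with hτ
  set A := chK P d μ
  set Bq := chK P d (KRR.bott P j q)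
  set Bc := chK P d (KRR.bott P j e)
  set tq := tdK P d q' with htq
  set tc := tdK P d e' with htc
  have hu1 : IsUnit tc := isUnit_tdK P hK hd e'
  have hu2 : IsUnit (Bq * scal P (j : ℚ) tq) := by
    rw [hQ]
    have h4 : ((j : ℚ) ^ (n + 1)) • tq = algebraMap ℚ (Gr P) ((j : ℚ) ^ (n + 1)) * tq := by
      rw [Algebra.algebraMap_eq_smul_one, smul_mul_assoc, one_mul]
    rw [h4]
    exact ((IsUnit.mk0 _ (pow_ne_zero _ hj0)).map (algebraMap ℚ (Gr P))).mul
      (isUnit_tdK P hK hd q')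
  have h5 : scal P (j : ℚ) τ * scal P (j : ℚ) tc = scal P (j : ℚ) tq := by
    rw [← map_mul, h1]
  apply (hu1.mul hu2).mul_right_cancel
  have hL : τ * A * (tc * (Bq * scal P (j : ℚ) tq)) =
      ((j : ℚ) * (M : ℚ) * (j : ℚ) ^ c) • (tq * tc * scal P (j : ℚ) τ) := by
    calc τ * A * (tc * (Bq * scal P (j : ℚ) tq))
        = (τ * tc) * (A * Bq) * scal P (j : ℚ) tq := by ring
      _ = tq * (((j : ℚ) * (M : ℚ)) • Bc) * (scal P (j : ℚ) τ * scal P (j : ℚ) tc) := by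
          rw [h1, hμ, h5]
      _ = ((j : ℚ) * (M : ℚ)) • (tq * (Bc * scal P (j : ℚ) tc) * scal P (j : ℚ) τ) := by
          rw [mul_smul_comm, smul_mul_assoc]
          congr 1
          ring
      _ = _ := by
          rw [hC, mul_smul_comm, smul_mul_assoc, smul_smul]
  have hR : (((M : ℚ) * (j : ℚ) ^ ((c : ℤ) - n)) • scal P (j : ℚ) τ) *
      (tc * (Bq * scal P (j : ℚ) tq)) =
      ((M : ℚ) * (j : ℚ) ^ ((c : ℤ) - n) * (j : ℚ) ^ (n + 1)) •
        (tq * tc * scal P (j : ℚ) τ) := by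
    rw [hQ, mul_smul_comm, smul_mul_assoc, mul_smul_comm, smul_smul]
    congr 1
    ring
  rw [hL, hR]
  congr 1
  rw [zpow_sub₀ hj0, zpow_natCast, zpow_natCast]
  field_simp
  ring

/-- The form for `q = (n + 1) v`, `v` a line element with inverse `u` (the case of
`q = [O(-1)]^{n+1}`). -/
theorem tdK_mul_chK_line {n c : ℕ} {u v e e' : K} (hv : P.IsLine v) (huv : u * v = 1)
    (he : (e ∈ P.pos ∧ P.aug e = c ∧ e' * LambdaOps.lam c e = LambdaOps.lam (c - 1) e) ∨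
      (c = 0 ∧ e = 0 ∧ e' = 0)) {j : ℕ} (hj : 1 ≤ j) {μ : K} {M : ℕ}
    (hμ : chK P d μ * chK P d (KRR.bott P j (((n + 1 : ℕ) : K) * v)) =
      ((j : ℚ) * (M : ℚ)) • chK P d (KRR.bott P j e)) :
    tdK P d (((n + 1 : ℕ) : K) * u - 1 - e') * chK P d μ =
      ((M : ℚ) * (j : ℚ) ^ ((c : ℤ) - n)) •
        scal P (j : ℚ) (tdK P d (((n + 1 : ℕ) : K) * u - 1 - e')) :=
  tdK_mul_chK hK hd (natCast_mul_pos (by omega) hv.1) (aug_natCast_mul_line hv)
    (line_dual hv huv) he hj hμ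

end todd

section loc

variable {K K' : Type v} [CommRing K] [CommRing K'] {R : Type} [CommRing R]

lemma exists_clear (j : ℕ) (hR : ∀ r : R, ∃ (n : ℕ) (z : ℤ), ((j ^ n : ℕ) : R) * r = z)
    (w : R ⊗[ℤ] K) : ∃ (n : ℕ) (x₀ : K), (j ^ n) • w = (1 : R) ⊗ₜ[ℤ] x₀ := by
  induction w using TensorProduct.induction_on with
  | zero => exact ⟨0, 0, by simp⟩
  | tmul r x =>
    obtain ⟨n, z, hz⟩ := hR r
    refine ⟨n, z • x, ?_⟩
    rw [TensorProduct.smul_tmul', nsmul_eq_mul, hz, TensorProduct.tmul_smul,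
      TensorProduct.smul_tmul', zsmul_eq_mul, mul_one]
  | add a b ha hb =>
    obtain ⟨n, x, hx⟩ := ha
    obtain ⟨m, y, hy⟩ := hb
    refine ⟨n + m, (j ^ m) • x + (j ^ n) • y, ?_⟩
    rw [smul_add, pow_add, TensorProduct.tmul_add, TensorProduct.tmul_smul,
      TensorProduct.tmul_smul, ← hx, ← hy, smul_smul, smul_smul, mul_comm (j ^ m) (j ^ n)]

/-- Clearing denominators in an Adams–Riemann–Roch formula with coefficients in `R`. -/
theorem exists_multiplier_gen {j : ℕ} (hj : 1 ≤ j) (g : R →+* ℚ)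
    (hR : ∀ r : R, ∃ (n : ℕ) (z : ℤ), ((j ^ n : ℕ) : R) * r = z)
    (f : K →+ K') (ψ : K → K) (ψ' : K' → K') (B C : K)
    (w : R ⊗[ℤ] K) (hw : w * ((1 : R) ⊗ₜ[ℤ] B) = 1)
    (h : ∀ x, (1 : R) ⊗ₜ[ℤ] ψ' (f x) = LinearMap.lTensor R f.toIntLinearMap
        ((j : R ⊗[ℤ] K) * ((1 : R) ⊗ₜ[ℤ] (C * ψ x)) * w)) :
    ∃ (M : ℕ) (μ : K), 1 ≤ M ∧
      (∀ x : K, (M : ℤ) • ((1 : ℚ) ⊗ₜ[ℤ] ψ' (f x)) = (1 : ℚ) ⊗ₜ[ℤ] f (μ * ψ x)) ∧
      (1 : ℚ) ⊗ₜ[ℤ] (μ * B) = ((j : ℚ) * (M : ℚ)) ⊗ₜ[ℤ] C := by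
  obtain ⟨n, x₀, hx₀⟩ := exists_clear j hR w
  refine ⟨j ^ n, (j : K) * C * x₀, Nat.one_le_pow _ _ hj, ?_, ?_⟩
  · intro x
    have h1 : (j ^ n) • ((1 : R) ⊗ₜ[ℤ] ψ' (f x)) = (1 : R) ⊗ₜ[ℤ] f ((j : K) * C * x₀ * ψ x) := by
      rw [h x, ← map_nsmul, ← mul_smul_comm, hx₀]
      have h2 : (j : R ⊗[ℤ] K) = (1 : R) ⊗ₜ[ℤ] (j : K) :=
        (map_natCast (Algebra.TensorProduct.includeRight : K →ₐ[ℤ] R ⊗[ℤ] K) j).symm
      rw [h2, Algebra.TensorProduct.tmul_mul_tmul, Algebra.TensorProduct.tmul_mul_tmul, mul_one,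
        mul_one, LinearMap.lTensor_tmul]
      change (1 : R) ⊗ₜ[ℤ] f _ = _
      congr 2
      ring
    have h3 := congrArg (LinearMap.rTensor K' g.toAddMonoidHom.toIntLinearMap) h1
    rw [map_nsmul, LinearMap.rTensor_tmul, LinearMap.rTensor_tmul] at h3
    have h4 : g.toAddMonoidHom.toIntLinearMap 1 = 1 := map_one g
    rw [h4] at h3
    rw [natCast_zsmul]
    exact h3
  · have h1 : (1 : R) ⊗ₜ[ℤ] (x₀ * B) = (j ^ n) • (1 : R ⊗[ℤ] K) := by
      rw [← hw, ← smul_mul_assoc, hx₀, Algebra.TensorProduct.tmul_mul_tmul, one_mul]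
    have h3 := congrArg (LinearMap.rTensor K g.toAddMonoidHom.toIntLinearMap) h1
    have h4 : g.toAddMonoidHom.toIntLinearMap 1 = 1 := map_one g
    rw [map_nsmul, LinearMap.rTensor_tmul, Algebra.TensorProduct.one_def,
      LinearMap.rTensor_tmul, h4] at h3
    have h5 : ((1 : ℚ) ⊗ₜ[ℤ] ((j : K) * C * x₀ * B) : ℚ ⊗[ℤ] K) =
        ((1 : ℚ) ⊗ₜ[ℤ] (x₀ * B)) * ((1 : ℚ) ⊗ₜ[ℤ] ((j : K) * C)) := by
      rw [Algebra.TensorProduct.tmul_mul_tmul, one_mul]
      congr 1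
      ring
    have h6 : ((1 : ℚ) ⊗ₜ[ℤ] ((j : K) * C) : ℚ ⊗[ℤ] K) = (j : ℚ) ⊗ₜ[ℤ] C := by
      rw [← nsmul_eq_mul, TensorProduct.tmul_smul, TensorProduct.smul_tmul', nsmul_eq_mul, mul_one]
    rw [h5, h3, h6, smul_mul_assoc, Algebra.TensorProduct.tmul_mul_tmul, one_mul, one_mul,
      TensorProduct.smul_tmul', nsmul_eq_mul]
    congr 1
    push_cast
    ring

/-- The map `ℤ[1/j] → ℚ`. -/
noncomputable def awayMap {j : ℕ} (hj : 1 ≤ j) : Localization.Away (j : ℤ) →+* ℚ :=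
  IsLocalization.Away.lift (j : ℤ) (g := Int.castRingHom ℚ)
    (by simpa using (by positivity : (j : ℚ) ≠ 0))

lemma away_clear (j : ℕ) (r : Localization.Away (j : ℤ)) :
    ∃ (n : ℕ) (z : ℤ), ((j ^ n : ℕ) : Localization.Away (j : ℤ)) * r = z := by
  obtain ⟨n, z, h⟩ := IsLocalization.Away.surj (j : ℤ) r
  refine ⟨n, z, ?_⟩
  rw [mul_comm]
  have h1 : ((j ^ n : ℕ) : Localization.Away (j : ℤ)) =
      algebraMap ℤ (Localization.Away (j : ℤ)) (j : ℤ) ^ n := by
    push_cast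
    rfl
  rw [h1, h]
  exact eq_intCast (algebraMap ℤ (Localization.Away (j : ℤ))) z

/-- Clearing the powers of `j` in the Adams–Riemann–Roch theorem over `ℤ[1/j]`: `B` is Bott's
class of `q`, `C` the one of the conormal class. -/
theorem exists_multiplier {j : ℕ} (hj : 1 ≤ j) (f : K →+ K') (ψ : K → K) (ψ' : K' → K') (B C : K)
    (w : TensorProduct ℤ (Localization.Away (j : ℤ)) K)
    (hw : w * ((1 : Localization.Away (j : ℤ)) ⊗ₜ[ℤ] B) = 1)
    (h : ∀ x, (1 : Localization.Away (j : ℤ)) ⊗ₜ[ℤ] ψ' (f x) =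
      LinearMap.lTensor (Localization.Away (j : ℤ)) f.toIntLinearMap
        ((j : TensorProduct ℤ (Localization.Away (j : ℤ)) K) *
          ((1 : Localization.Away (j : ℤ)) ⊗ₜ[ℤ] (C * ψ x)) * w)) :
    ∃ (M : ℕ) (μ : K), 1 ≤ M ∧
      (∀ x : K, (M : ℤ) • ((1 : ℚ) ⊗ₜ[ℤ] ψ' (f x)) = (1 : ℚ) ⊗ₜ[ℤ] f (μ * ψ x)) ∧
      (1 : ℚ) ⊗ₜ[ℤ] (μ * B) = ((j : ℚ) * (M : ℚ)) ⊗ₜ[ℤ] C :=
  exists_multiplier_gen hj (awayMap hj) (away_clear j) f ψ ψ' B C w hw h

end loc

section combine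

variable {KX KY : Type v} [CommRing KX] [LambdaRing.LambdaOps KX] [CommRing KY]
  [LambdaRing.LambdaOps KY] {PX : LambdaRing.PosStructure KX} {PY : LambdaRing.PosStructure KY}
  (hKX : HasSplitting KX PX) {dX : ℕ} (hdX : gammaFiltration PX (dX + 1) = ⊥)

include hKX hdX in
/-- **From Adams–Riemann–Roch (S3753) to the hypotheses of the abstract
Grothendieck–Riemann–Roch theorem.**  `u = [i^*O(1)]`, `v = [i^*O(-1)]`, `e` the conormal class
and `e'` its dual. -/
theorem exists_input {j : ℕ} (hj : 1 ≤ j) (f : KX →+ KY) {n c : ℕ} {u v e e' : KX}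
    (hv : PX.IsLine v) (huv : u * v = 1)
    (he : (e ∈ PX.pos ∧ PX.aug e = c ∧ e' * LambdaOps.lam c e = LambdaOps.lam (c - 1) e) ∨
      (c = 0 ∧ e = 0 ∧ e' = 0))
    (h : (∃ w : TensorProduct ℤ (Localization.Away (j : ℤ)) KX,
        w * ((1 : Localization.Away (j : ℤ)) ⊗ₜ[ℤ] KRR.bott PX j (((n + 1 : ℕ) : KX) * v)) = 1) ∧
      ∀ w : TensorProduct ℤ (Localization.Away (j : ℤ)) KX,
        w * ((1 : Localization.Away (j : ℤ)) ⊗ₜ[ℤ] KRR.bott PX j (((n + 1 : ℕ) : KX) * v)) = 1 →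
        ∀ x : KX, (1 : Localization.Away (j : ℤ)) ⊗ₜ[ℤ] LambdaRing.adams PY j (f x) =
          LinearMap.lTensor (Localization.Away (j : ℤ)) f.toIntLinearMap
            ((j : TensorProduct ℤ (Localization.Away (j : ℤ)) KX) *
              ((1 : Localization.Away (j : ℤ)) ⊗ₜ[ℤ] (KRR.bott PX j e *
                LambdaRing.adams PX j x)) * w)) :
    ∃ (M : ℕ) (μ : KX), 1 ≤ M ∧
      (∀ x : KX, (M : ℤ) • ((1 : ℚ) ⊗ₜ[ℤ] adams PY j (f x)) =
        (1 : ℚ) ⊗ₜ[ℤ] f (μ * adams PX j x)) ∧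
      degProj PX 0 (tdK PX dX (((n + 1 : ℕ) : KX) * u - 1 - e')) = 1 ∧
      tdK PX dX (((n + 1 : ℕ) : KX) * u - 1 - e') * chK PX dX μ =
        ((M : ℚ) * (j : ℚ) ^ ((c : ℤ) - n)) •
          scal PX (j : ℚ) (tdK PX dX (((n + 1 : ℕ) : KX) * u - 1 - e')) := by
  obtain ⟨⟨w, hw⟩, h2⟩ := h
  obtain ⟨M, μ, hM, h3, h4⟩ := exists_multiplier hj f (adams PX j) (adams PY j) _ _ w hw (h2 w hw)
  refine ⟨M, μ, hM, h3, degProj_zero_tdK hdX _, ?_⟩
  apply tdK_mul_chK_line hKX hdX hv huv he hj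
  have h5 := congrArg (PhiA PX hKX hdX) h4
  rw [PhiA_one_tmul, chK_mul PX hKX hdX] at h5
  rw [h5, PhiA_apply, PhiE_tmul, chHom_apply]

end combine

end Groth.Agent.Krr.H491.GRRInput
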