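import Groth.Agent.Krr.H493.ChBij

/-!
# The Adams operations on `ℚ ⊗ K` and the Chern character as a ring isomorphism `ℚ ⊗ K ≅ ℚGr K`
-/

set_option autoImplicit false
universe v

open scoped TensorProduct
open LambdaRing KGr

namespace Groth.Agent.Krr.H491.KQ

open Groth.Agent.Books.Lambda1 Groth.Agent.Books.Lambda2 Groth.Agent.Books.Lambda3
open Groth.Agent.Krr.H493.AdamsDiff Groth.Agent.Krr.H493.ChK Groth.Agent.Krr.H493.ChBij
open Groth.Agent.Krr.H500.GrK Groth.Agent.Krr.H493.GrBasis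

section tensor

/-- if `1 ⊗ z = 0` in `ℚ ⊗ M` then `z` is torsion -/
lemma exists_nsmul_of_one_tmul {M : Type*} [AddCommGroup M] {z : M}
    (h : (1 : ℚ) ⊗ₜ[ℤ] z = (0 : ℚ ⊗[ℤ] M)) : ∃ k : ℕ, 1 ≤ k ∧ k • z = 0 :=
  exists_nsmul_eq_zero one_ne_zero h

end tensor

variable {K : Type v} [CommRing K] [LambdaRing.LambdaOps K] (P : LambdaRing.PosStructure K)

section grading

/-- homogeneous elements of degree `n` of `ℚGr K` -/
noncomputable def HomG (n : ℕ) : Submodule ℚ (Gr P) := LinearMap.eqLocus (proj P n) LinearMap.id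

lemma mem_HomG {n : ℕ} {z : Gr P} : z ∈ HomG P n ↔ proj P n z = z := Iff.rfl

lemma grK_mem_HomG (n : ℕ) (x : K) : grK P (n : ℤ) x ∈ HomG P n := by
  rw [mem_HomG, proj_grK_self]

lemma proj_mem_HomG (n : ℕ) (z : Gr P) : proj P n z ∈ HomG P n := by
  rw [mem_HomG]
  refine gr_induction P (motive := fun z => proj P n (proj P n z) = proj P n z) ?_ ?_ ?_ z
  · intro a b ha hb
    rw [map_add, map_add, ha, hb]
  · intro q a ha
    rw [map_smul, map_smul, ha]
  · intro m x _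
    rw [proj_grK]
    split_ifs with h
    · rw [proj_grK, if_pos h]
    · rw [map_zero]

lemma proj_of_mem {n : ℕ} {z : Gr P} (h : z ∈ HomG P n) : proj P n z = z := h

lemma proj_of_mem_of_ne {n m : ℕ} (hnm : m ≠ n) {z : Gr P} (h : z ∈ HomG P n) :
    proj P m z = 0 := by
  rw [← proj_of_mem P h]
  refine gr_induction P (motive := fun z => proj P m (proj P n z) = 0) ?_ ?_ ?_ z
  · intro a b ha hb
    rw [map_add, map_add, ha, hb, add_zero]
  · intro q a ha
    rw [map_smul, map_smul, ha, smul_zero]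
  · intro k x _
    rw [proj_grK]
    split_ifs with h
    · rw [proj_grK, if_neg]
      intro h'
      exact hnm (by exact_mod_cast (h'.symm.trans h))
    · rw [map_zero]

/-- the homogeneous elements of degree `n` are spanned by the classes of `F^n` -/
lemma HomG_induction {n : ℕ} {motive : Gr P → Prop} (h0 : motive 0)
    (add : ∀ a b, motive a → motive b → motive (a + b))
    (smul : ∀ (q : ℚ) (a), motive a → motive (q • a))
    (cls : ∀ x ∈ gammaFiltration P n, motive (grK P (n : ℤ) x)) {z : Gr P}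
    (hz : z ∈ HomG P n) : motive z := by
  rw [← proj_of_mem P hz]
  refine gr_induction P (motive := fun z => motive (proj P n z)) ?_ ?_ ?_ z
  · intro a b ha hb
    rw [map_add]
    exact add _ _ ha hb
  · intro q a ha
    rw [map_smul]
    exact smul _ _ ha
  · intro m x hx
    rw [proj_grK]
    split_ifs with h
    · have h' : m = n := by exact_mod_cast h
      subst h'
      exact cls x hx
    · exact h0

lemma mul_mem_HomG {n m : ℕ} {z w : Gr P} (hz : z ∈ HomG P n) (hw : w ∈ HomG P m) :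
    z * w ∈ HomG P (n + m) := by
  refine HomG_induction P (motive := fun z => z * w ∈ HomG P (n + m)) ?_ ?_ ?_ ?_ hz
  · rw [zero_mul]; exact Submodule.zero_mem _
  · intro a b ha hb
    rw [add_mul]
    exact Submodule.add_mem _ ha hb
  · intro q a ha
    rw [smul_mul_assoc]
    exact Submodule.smul_mem _ _ ha
  · intro x hx
    refine HomG_induction P (motive := fun w => grK P (n : ℤ) x * w ∈ HomG P (n + m)) ?_ ?_ ?_ ?_ hw
    · rw [mul_zero]; exact Submodule.zero_mem _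
    · intro a b ha hb
      rw [mul_add]
      exact Submodule.add_mem _ ha hb
    · intro q a ha
      rw [mul_smul_comm]
      exact Submodule.smul_mem _ _ ha
    · intro y hy
      rw [grK_mul P (mem_QF_of_mem hx) (mem_QF_of_mem hy), ← Int.natCast_add]
      exact grK_mem_HomG P _ _

lemma one_mem_HomG : (1 : Gr P) ∈ HomG P 0 := by
  rw [← grK_zero_one P]
  exact grK_mem_HomG P 0 1

lemma algebraMap_mem_HomG (q : ℚ) : algebraMap ℚ (Gr P) q ∈ HomG P 0 := by
  rw [Algebra.algebraMap_eq_smul_one]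
  exact Submodule.smul_mem _ _ (one_mem_HomG P)

lemma chern_mem_HomG (n : ℕ) (x : K) : chern P n x ∈ HomG P n := grK_mem_HomG P n _

variable {P} in
lemma grK_eq_zero_of_lt {d : ℕ} (hd : gammaFiltration P (d + 1) = ⊥) {n : ℕ} (hn : d < n) (x : K) :
    grK P (n : ℤ) x = 0 := by
  by_cases hx : x ∈ QF P n
  · obtain ⟨N, hN, hx⟩ := hx
    have h1 : (N : K) * x = 0 := by
      have := filtration_anti P (show d + 1 ≤ n by omega) hx
      rwa [hd, AddSubgroup.mem_bot] at this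
    have h2 : x ∈ QF P ((n : ℤ) + 1).toNat := ⟨N, hN, by rw [h1]; exact AddSubgroup.zero_mem _⟩
    exact grK_eq_zero_of_mem P h2
  · exact grK_eq_zero_of_notMem P (by simpa using hx)

variable {P} in
lemma eq_zero_of_mem_HomG {d : ℕ} (hd : gammaFiltration P (d + 1) = ⊥) {n : ℕ} (hn : d < n)
    {z : Gr P} (hz : z ∈ HomG P n) : z = 0 := by
  refine HomG_induction P (motive := fun z => z = 0) rfl ?_ ?_ ?_ hz
  · rintro a b rfl rfl
    rw [add_zero]
  · rintro q a rfl
    rw [smul_zero]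
  · intro x _
    exact grK_eq_zero_of_lt hd hn x

variable {P} in
lemma eq_sum_proj {d : ℕ} (hd : gammaFiltration P (d + 1) = ⊥) (z : Gr P) :
    z = ∑ n ∈ Finset.range (d + 1), proj P n z := by
  refine gr_induction P (motive := fun z => z = ∑ n ∈ Finset.range (d + 1), proj P n z)
    ?_ ?_ ?_ z
  · intro a b ha hb
    simp only [map_add]
    rw [Finset.sum_add_distrib, ← ha, ← hb]
  · intro q a ha
    simp only [map_smul]
    rw [← Finset.smul_sum, ← ha]
  · intro m x _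
    rcases lt_or_ge d m with h | h
    · rw [grK_eq_zero_of_lt hd h]
      simp
    · rw [Finset.sum_eq_single m]
      · rw [proj_grK_self]
      · intro k _ hk
        rw [proj_grK_of_ne]
        intro h'
        exact hk (by exact_mod_cast h'.symm)
      · intro h'
        exact absurd (Finset.mem_range.mpr (by omega)) h'

end grading

variable (hK : HasSplitting K P) (d : ℕ)

section adams

/-- the Adams operation on `ℚ ⊗ K` -/
noncomputable def psiQ (j : ℕ) : ℚ ⊗[ℤ] K →ₐ[ℚ] ℚ ⊗[ℤ] K :=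
  Algebra.TensorProduct.map (AlgHom.id ℚ ℚ) (adamsRingHom P hK j).toIntAlgHom

lemma psiQ_tmul (j : ℕ) (q : ℚ) (x : K) :
    psiQ P hK j (q ⊗ₜ[ℤ] x) = q ⊗ₜ[ℤ] adams P j x := rfl

include hK in
lemma dl_adams (n j : ℕ) (x : K) : dl P n (adams P j x) = adams P j (dl P n x) := by
  rw [dl_apply, dl_apply]
  have h : ∀ y, adams P j y = adamsHom P j y := fun y => rfl
  rw [h (∑ k ∈ Finset.range (n + 1), _), map_sum]
  apply Finset.sum_congr rfl
  intro k _
  rw [map_zsmul, adamsHom_apply, adams_adams P hK, adams_adams P hK, mul_comm k j]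

lemma ch_adams (n j : ℕ) (x : K) : ch P hK n (adams P j x) = ((j : ℚ) ^ n) • ch P hK n x := by
  have hy := dl_mem P hK n x
  have hg := (Good_of_mem P hK j n _ hy).2
  have h1 : adams P j (dl P n x) = (adams P j (dl P n x) - (j : K) ^ n * dl P n x) +
      ((j ^ n : ℕ) : K) * dl P n x := by push_cast; ring
  rw [ch_apply, ch_apply, dl_adams P hK, h1, grK_add, grK_natCast_mul,
    grK_eq_zero_of_mem P (n := (n : ℤ)), zero_add, ← Nat.cast_smul_eq_nsmul ℚ, smul_comm]
  · push_cast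
    rfl
  · exact mem_QF_of_mem (by simpa using hg)
  · apply mem_QF_of_mem
    exact filtration_anti P (by simp) hg
  · exact mem_QF_of_mem (mul_mem_filtration_left P _ _ _ (by simpa using hy))

lemma ch_mem_HomG (n : ℕ) (x : K) : ch P hK n x ∈ HomG P n := by
  rw [mem_HomG, proj_ch, if_pos rfl]

/-- the filtration is recognised by the Chern character -/
lemma mem_QF_of_ch (x : K) (n : ℕ) (h : ∀ m < n, ch P hK m x = 0) : x ∈ QF P n := by
  induction n with
  | zero => exact mem_QF_zero x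
  | succ n ih =>
    have hxn := ih (fun m hm => h m (by omega))
    rw [← grK_eq_zero_iff P hxn]
    obtain ⟨N, hN, hNx⟩ := hxn
    have h2 : ch P hK n ((N : K) * x) = 0 := by
      rw [← nsmul_eq_mul, map_nsmul, h n (by omega), smul_zero]
    rw [ch_of_mem P hK n _ hNx, grK_natCast_mul, ← Nat.cast_smul_eq_nsmul ℚ] at h2
    have hN0 : (N : ℚ) ≠ 0 := by positivity
    exact (smul_eq_zero_iff_right hN0).mp h2

lemma ch_of_mem_QF (n : ℕ) (x : K) (hx : x ∈ QF P n) : ch P hK n x = grK P (n : ℤ) x := by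
  obtain ⟨N, hN, hNx⟩ := hx
  have hN0 : (N : ℚ) ≠ 0 := by positivity
  have h := ch_of_mem P hK n _ hNx
  rw [grK_natCast_mul, ← nsmul_eq_mul, map_nsmul, ← Nat.cast_smul_eq_nsmul ℚ,
    ← Nat.cast_smul_eq_nsmul ℚ] at h
  exact smul_right_injective _ hN0 h

lemma ch_eq_zero_of_mem_QF (m n : ℕ) (hmn : n < m) (x : K) (hx : x ∈ QF P m) :
    ch P hK n x = 0 := by
  obtain ⟨N, hN, hNx⟩ := hx
  have hN0 : (N : ℚ) ≠ 0 := by positivity
  have h := ch_eq_zero_of_mem P hK m n hmn _ hNx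
  rw [← nsmul_eq_mul, map_nsmul, ← Nat.cast_smul_eq_nsmul ℚ] at h
  exact (smul_eq_zero_iff_right hN0).mp h

variable {d} (hd : gammaFiltration P (d + 1) = ⊥)

/-- the linear isomorphism `ℚ ⊗ K ≅ ℚGr K` -/
noncomputable def PhiE : (ℚ ⊗[ℤ] K) ≃ₗ[ℚ] Gr P :=
  LinearEquiv.ofBijective (Phi P hK d) ⟨Phi_injective P hK d hd, Phi_surjective P hK d hd⟩

lemma PhiE_tmul (q : ℚ) (x : K) : PhiE P hK hd (q ⊗ₜ[ℤ] x) = q • chHom P hK d x :=
  Phi_tmul P hK d q x

lemma PhiE_one_tmul (x : K) : PhiE P hK hd (1 ⊗ₜ[ℤ] x) = chK P d x := by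
  rw [PhiE_tmul, one_smul, chHom_apply]

lemma proj_PhiE_tmul (n : ℕ) (hn : n ≤ d) (q : ℚ) (x : K) :
    proj P n (PhiE P hK hd (q ⊗ₜ[ℤ] x)) = q • ch P hK n x := by
  rw [PhiE_tmul, map_smul, proj_chHom P hK d n hn]

lemma PhiE_psiQ (j : ℕ) (z : ℚ ⊗[ℤ] K) : PhiE P hK hd (psiQ P hK j z) =
    ∑ n ∈ Finset.range (d + 1), ((j : ℚ) ^ n) • proj P n (PhiE P hK hd z) := by
  obtain ⟨N, x, hN, rfl⟩ := exists_tmul z
  rw [psiQ_tmul, PhiE_tmul, chHom_eq_sum, Finset.smul_sum]
  apply Finset.sum_congr rfl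
  intro n hn
  rw [proj_PhiE_tmul P hK hd n (by have := Finset.mem_range.mp hn; omega), ch_adams, smul_comm]

lemma psiQ_of_mem_HomG (j n : ℕ) {z : ℚ ⊗[ℤ] K} (hz : PhiE P hK hd z ∈ HomG P n) :
    psiQ P hK j z = ((j : ℚ) ^ n) • z := by
  apply (PhiE P hK hd).injective
  rw [PhiE_psiQ, map_smul]
  rcases lt_or_ge d n with h | h
  · rw [eq_zero_of_mem_HomG hd h hz]
    simp
  · rw [Finset.sum_eq_single n]
    · rw [proj_of_mem P hz]
    · intro m _ hm
      rw [proj_of_mem_of_ne P hm hz, smul_zero]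
    · intro h'
      exact absurd (Finset.mem_range.mpr (by omega)) h'

/-- if `ψ^j z = c z` and `proj n (ch z) ≠ 0`, then `c = j^n` -/
lemma proj_eq_zero_of_psiQ (j n : ℕ) (hn : n ≤ d) (c : ℚ) (hc : c ≠ (j : ℚ) ^ n) {z : ℚ ⊗[ℤ] K}
    (hz : psiQ P hK j z = c • z) : proj P n (PhiE P hK hd z) = 0 := by
  have h1 : proj P n (PhiE P hK hd (psiQ P hK j z)) = proj P n (PhiE P hK hd (c • z)) := by
    rw [hz]
  rw [PhiE_psiQ, map_smul, map_smul, map_sum, Finset.sum_eq_single n] at h1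
  · rw [map_smul, proj_of_mem P (proj_mem_HomG P n _), ← sub_eq_zero, ← sub_smul] at h1
    exact (smul_eq_zero_iff_right (sub_ne_zero.mpr hc.symm)).mp h1
  · intro m _ hm
    rw [map_smul, proj_of_mem_of_ne P (Ne.symm hm) (proj_mem_HomG P m _), smul_zero]
  · intro h'
    exact absurd (Finset.mem_range.mpr (by omega)) h'

lemma mem_HomG_of_psiQ (j n : ℕ) (hj : 2 ≤ j) {z : ℚ ⊗[ℤ] K}
    (hz : psiQ P hK j z = ((j : ℚ) ^ n) • z) : PhiE P hK hd z ∈ HomG P n := by
  have hinj : ∀ m, m ≠ n → ((j : ℚ) ^ n) ≠ (j : ℚ) ^ m := by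
    intro m hm h
    have h' : j ^ n = j ^ m := by exact_mod_cast h
    exact hm (Nat.pow_right_injective hj h'.symm)
  have h0 : ∀ m, m ≤ d → m ≠ n → proj P m (PhiE P hK hd z) = 0 := fun m hm hmn =>
    proj_eq_zero_of_psiQ P hK hd j m hm _ (hinj m hmn) hz
  rw [eq_sum_proj hd (PhiE P hK hd z)]
  apply Submodule.sum_mem
  intro m hm
  by_cases hmn : m = n
  · subst hmn
    exact proj_mem_HomG P _ _
  · rw [h0 m (by have := Finset.mem_range.mp hm; omega) hmn]
    exact Submodule.zero_mem _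

include hd in
lemma eq_zero_of_psiQ (j : ℕ) (c : ℚ) (hc : ∀ n : ℕ, c ≠ (j : ℚ) ^ n) {z : ℚ ⊗[ℤ] K}
    (hz : psiQ P hK j z = c • z) : z = 0 := by
  apply (PhiE P hK hd).injective
  rw [map_zero, eq_sum_proj hd (PhiE P hK hd z)]
  apply Finset.sum_eq_zero
  intro m hm
  exact proj_eq_zero_of_psiQ P hK hd j m (by have := Finset.mem_range.mp hm; omega) _ (hc m) hz

/-- representatives of the elements of `ℚ ⊗ K` with homogeneous Chern character -/
lemma exists_rep {n : ℕ} {z : ℚ ⊗[ℤ] K} (hz : PhiE P hK hd z ∈ HomG P n) :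
    ∃ (N : ℕ) (x : K), 1 ≤ N ∧ z = (1 / (N : ℚ)) ⊗ₜ[ℤ] x ∧ x ∈ QF P n ∧
      PhiE P hK hd z = (1 / (N : ℚ)) • grK P (n : ℤ) x ∧
      chK P d x = grK P (n : ℤ) x := by
  obtain ⟨N, x, hN, rfl⟩ := exists_tmul z
  have hN0 : (1 / (N : ℚ)) ≠ 0 := by positivity
  have hx : x ∈ QF P n := by
    rcases lt_or_ge d n with h | h
    · have h1 := eq_zero_of_mem_HomG hd h hz
      have h2 : (1 / (N : ℚ)) ⊗ₜ[ℤ] x = (0 : ℚ ⊗[ℤ] K) := by
        apply (PhiE P hK hd).injective
        rw [h1, map_zero]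
      obtain ⟨k, hk, hk'⟩ := exists_nsmul_eq_zero hN0 h2
      exact ⟨k, hk, by rw [← nsmul_eq_mul, hk']; exact AddSubgroup.zero_mem _⟩
    · apply mem_QF_of_ch P hK
      intro m hm
      have := proj_of_mem_of_ne P (show m ≠ n by omega) hz
      rw [proj_PhiE_tmul P hK hd m (by omega)] at this
      exact (smul_eq_zero_iff_right hN0).mp this
  have hch : chK P d x = grK P (n : ℤ) x := by
    rw [← PhiE_one_tmul P hK hd, ← ch_of_mem_QF P hK n x hx]
    have h3 : PhiE P hK hd (1 ⊗ₜ[ℤ] x) ∈ HomG P n := by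
      have : (1 : ℚ) ⊗ₜ[ℤ] x = (N : ℚ) • ((1 / (N : ℚ)) ⊗ₜ[ℤ] x) := by
        rw [TensorProduct.smul_tmul', smul_eq_mul]
        congr 1
        field_simp
      rw [this, map_smul]
      exact Submodule.smul_mem _ _ hz
    rcases lt_or_ge d n with h | h
    · rw [eq_zero_of_mem_HomG hd h h3, eq_zero_of_mem_HomG hd h (ch_mem_HomG P hK n x)]
    · rw [← proj_of_mem P h3, proj_PhiE_tmul P hK hd n h, one_smul]
  refine ⟨N, x, hN, rfl, hx, ?_, hch⟩
  rw [PhiE_tmul, chHom_apply, hch]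

lemma PhiE_mul_of_homogeneous {a b : ℕ} {z w : ℚ ⊗[ℤ] K} (hz : PhiE P hK hd z ∈ HomG P a)
    (hw : PhiE P hK hd w ∈ HomG P b) :
    PhiE P hK hd (z * w) = PhiE P hK hd z * PhiE P hK hd w := by
  have hzw : PhiE P hK hd (z * w) ∈ HomG P (a + b) := by
    apply mem_HomG_of_psiQ P hK hd 2 (a + b) le_rfl
    rw [map_mul, psiQ_of_mem_HomG P hK hd 2 a hz, psiQ_of_mem_HomG P hK hd 2 b hw,
      smul_mul_smul_comm, pow_add]
  obtain ⟨N, x, hN, hzx, hx, hxz, -⟩ := exists_rep P hK hd hz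
  obtain ⟨M, y, hM, hwy, hy, hyw, -⟩ := exists_rep P hK hd hw
  have hxy : x * y ∈ QF P (a + b) := mul_mem_QF hx hy
  have h1 : z * w = (1 / (N : ℚ) * (1 / (M : ℚ))) ⊗ₜ[ℤ] (x * y) := by
    rw [hzx, hwy, Algebra.TensorProduct.tmul_mul_tmul]
  rw [hxz, hyw, smul_mul_smul_comm, grK_mul P hx hy, ← Int.natCast_add]
  rcases lt_or_ge d (a + b) with h | h
  · rw [eq_zero_of_mem_HomG hd h hzw, grK_eq_zero_of_lt hd h, smul_zero]
  · rw [← proj_of_mem P hzw, h1, proj_PhiE_tmul P hK hd _ h, ch_of_mem_QF P hK _ _ hxy]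

/-- the Chern character is multiplicative -/
theorem PhiE_mul (z w : ℚ ⊗[ℤ] K) :
    PhiE P hK hd (z * w) = PhiE P hK hd z * PhiE P hK hd w := by
  have key : ∀ z : ℚ ⊗[ℤ] K, z = ∑ n ∈ Finset.range (d + 1),
      (PhiE P hK hd).symm (proj P n (PhiE P hK hd z)) := by
    intro z
    apply (PhiE P hK hd).injective
    rw [map_sum]
    simp only [LinearEquiv.apply_symm_apply]
    exact eq_sum_proj hd _
  rw [key z, key w, Finset.sum_mul_sum, map_sum, map_sum, map_sum, Finset.sum_mul_sum]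
  apply Finset.sum_congr rfl
  intro n _
  rw [map_sum]
  apply Finset.sum_congr rfl
  intro m _
  apply PhiE_mul_of_homogeneous P hK hd (a := n) (b := m)
  · rw [LinearEquiv.apply_symm_apply]
    exact proj_mem_HomG P _ _
  · rw [LinearEquiv.apply_symm_apply]
    exact proj_mem_HomG P _ _

lemma PhiE_one : PhiE P hK hd 1 = 1 := by
  obtain ⟨w, hw⟩ := (PhiE P hK hd).surjective 1
  have h := PhiE_mul P hK hd 1 w
  rw [one_mul, hw, mul_one] at h
  exact h.symm

/-- **the Chern character as an isomorphism of `ℚ`-algebras** -/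
noncomputable def PhiA : (ℚ ⊗[ℤ] K) ≃ₐ[ℚ] Gr P :=
  AlgEquiv.ofLinearEquiv (PhiE P hK hd) (PhiE_one P hK hd) (PhiE_mul P hK hd)

lemma PhiA_apply (z : ℚ ⊗[ℤ] K) : PhiA P hK hd z = PhiE P hK hd z := rfl

lemma PhiA_one_tmul (x : K) : PhiA P hK hd (1 ⊗ₜ[ℤ] x) = chK P d x := PhiE_one_tmul P hK hd x

include hK hd in
/-- the Chern character is multiplicative -/
theorem chK_mul (x y : K) : chK P d (x * y) = chK P d x * chK P d y := by
  rw [← PhiA_one_tmul P hK hd, ← PhiA_one_tmul P hK hd, ← PhiA_one_tmul P hK hd, ← map_mul,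
    Algebra.TensorProduct.tmul_mul_tmul, one_mul]

include hK in
lemma chK_add (x y : K) : chK P d (x + y) = chK P d x + chK P d y := by
  rw [← chHom_apply P hK, ← chHom_apply P hK, ← chHom_apply P hK, map_add]

include hK hd in
lemma chK_one : chK P d (1 : K) = 1 := by
  rw [← PhiA_one_tmul P hK hd, ← map_one (PhiA P hK hd)]
  rfl

/-- the Adams operation on `ℚGr K` (multiplication by `j^n` in degree `n`) -/
noncomputable def psiG (j : ℕ) : Gr P →ₐ[ℚ] Gr P :=
  (PhiA P hK hd).toAlgHom.comp ((psiQ P hK j).comp (PhiA P hK hd).symm.toAlgHom)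

lemma psiG_PhiA (j : ℕ) (z : ℚ ⊗[ℤ] K) :
    psiG P hK hd j (PhiA P hK hd z) = PhiA P hK hd (psiQ P hK j z) := by
  change PhiA P hK hd (psiQ P hK j ((PhiA P hK hd).symm (PhiA P hK hd z))) = _
  rw [AlgEquiv.symm_apply_apply]

lemma psiG_of_mem (j n : ℕ) {z : Gr P} (hz : z ∈ HomG P n) :
    psiG P hK hd j z = ((j : ℚ) ^ n) • z := by
  obtain ⟨w, rfl⟩ := (PhiA P hK hd).surjective z
  rw [psiG_PhiA, psiQ_of_mem_HomG P hK hd j n hz, map_smul]

lemma psiG_chK (j : ℕ) (x : K) : psiG P hK hd j (chK P d x) = chK P d (adams P j x) := by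
  rw [← PhiA_one_tmul P hK hd, psiG_PhiA, psiQ_tmul, PhiA_one_tmul]

end adams

end Groth.Agent.Krr.H491.KQ
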