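import Groth.Agent.Krr.H491.NilEval
import Groth.Agent.Krr.H493.Newton
import Groth.Prelude.Def_KGr

/-!
# Logarithmic derivatives of power series and the Todd polynomial
-/

set_option autoImplicit false
universe v

open PowerSeries Finset

namespace Groth.Agent.Krr.H491.LogDer

open Groth.Agent.Krr.H491.NilEval Groth.Agent.Krr.H493.Newton

section LD

variable {R : Type*} [CommRing R]

/-- `F` has logarithmic derivative `Λ` (for `t d/dt`) up to degree `d` -/
def LD (d : ℕ) (F Λ : R⟦X⟧) : Prop :=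
  ∀ n ≤ d, coeff n (X * derivative R F) = coeff n (F * Λ)

lemma coeff_X_mul_derivative (F : R⟦X⟧) (n : ℕ) :
    coeff n (X * derivative R F) = n * coeff n F := by
  rcases n with _ | n
  · simp
  · rw [coeff_succ_X_mul, coeff_derivative]
    push_cast
    ring

lemma coeff_mul_congr {d n : ℕ} (hn : n ≤ d) {F F' G G' : R⟦X⟧}
    (hF : ∀ k ≤ d, coeff k F = coeff k F') (hG : ∀ k ≤ d, coeff k G = coeff k G') :
    coeff n (F * G) = coeff n (F' * G') := by
  rw [coeff_mul, coeff_mul]
  apply Finset.sum_congr rfl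
  rintro ⟨a, b⟩ hab
  rw [mem_antidiagonal] at hab
  dsimp only at hab ⊢
  rw [hF a (by omega), hG b (by omega)]

lemma LD.mul {d : ℕ} {F G Λ M : R⟦X⟧} (hF : LD d F Λ) (hG : LD d G M) :
    LD d (F * G) (Λ + M) := by
  intro n hn
  have h1 : X * derivative R (F * G) = (X * derivative R F) * G + F * (X * derivative R G) := by
    rw [Derivation.leibniz, smul_eq_mul, smul_eq_mul]; ring
  have h2 : F * G * (Λ + M) = (F * Λ) * G + F * (G * M) := by ring
  rw [h1, h2, map_add, map_add, coeff_mul_congr hn hF (fun _ _ => rfl),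
    coeff_mul_congr hn (fun _ _ => rfl) hG]

lemma LD.one (d : ℕ) : LD d (1 : R⟦X⟧) 0 := by
  intro n _
  simp

lemma LD.prod {d : ℕ} {ι : Type*} (s : Finset ι) (F Λ : ι → R⟦X⟧)
    (h : ∀ i ∈ s, LD d (F i) (Λ i)) : LD d (∏ i ∈ s, F i) (∑ i ∈ s, Λ i) := by
  classical
  induction s using Finset.induction_on with
  | empty => simpa using LD.one d
  | insert a s ha ih =>
    rw [Finset.prod_insert ha, Finset.sum_insert ha]
    exact (h a (Finset.mem_insert_self _ _)).mul
      (ih (fun i hi => h i (Finset.mem_insert_of_mem hi)))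

lemma LD.congr {d : ℕ} {F F' Λ Λ' : R⟦X⟧} (h : LD d F Λ) (hF : ∀ k ≤ d, coeff k F = coeff k F')
    (hΛ : ∀ k ≤ d, coeff k Λ = coeff k Λ') : LD d F' Λ' := by
  intro n hn
  rw [coeff_X_mul_derivative, ← hF n hn, ← coeff_X_mul_derivative, h n hn,
    coeff_mul_congr hn hF hΛ]

lemma LD.mono {d e : ℕ} {F Λ : R⟦X⟧} (h : LD d F Λ) (he : e ≤ d) : LD e F Λ :=
  fun n hn => h n (hn.trans he)

lemma LD.map {S : Type*} [CommRing S] (f : R →+* S) {d : ℕ} {F Λ : R⟦X⟧} (h : LD d F Λ) :
    LD d (PowerSeries.map f F) (PowerSeries.map f Λ) := by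
  intro n hn
  have h1 := congrArg f (h n hn)
  rw [coeff_X_mul_derivative, map_mul, map_natCast] at h1
  rw [coeff_X_mul_derivative, coeff_map, h1, ← map_mul, coeff_map]

lemma LD.of_map {S : Type*} [CommRing S] (f : R →+* S) (hf : Function.Injective f) {d : ℕ}
    {F Λ : R⟦X⟧} (h : LD d (PowerSeries.map f F) (PowerSeries.map f Λ)) : LD d F Λ := by
  intro n hn
  apply hf
  have h1 := h n hn
  rw [coeff_X_mul_derivative, coeff_map, ← map_mul, coeff_map] at h1
  rw [coeff_X_mul_derivative, map_mul, map_natCast, h1]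

lemma LD.rescale {d : ℕ} {F Λ : R⟦X⟧} (h : LD d F Λ) (a : R) :
    LD d (PowerSeries.rescale a F) (PowerSeries.rescale a Λ) := by
  intro n hn
  have h1 := h n hn
  rw [coeff_X_mul_derivative] at h1
  rw [coeff_X_mul_derivative, coeff_rescale, ← map_mul, coeff_rescale, ← h1]
  ring

/-- a series with given logarithmic derivative is unique over a `ℚ`-algebra -/
lemma LD.unique [Algebra ℚ R] {d : ℕ} {F G Λ M : R⟦X⟧} (hF : LD d F Λ) (hG : LD d G M)
    (hΛ : ∀ k ≤ d, coeff k Λ = coeff k M) (h0 : coeff 0 Λ = 0) (hFG : coeff 0 F = coeff 0 G) :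
    ∀ n ≤ d, coeff n F = coeff n G := by
  intro n
  induction n using Nat.strong_induction_on with
  | _ n ih =>
    intro hn
    rcases Nat.eq_zero_or_pos n with rfl | hpos
    · exact hFG
    · have h1 := hF n hn
      have h2 := hG n hn
      rw [coeff_X_mul_derivative, coeff_mul, Finset.Nat.sum_antidiagonal_eq_sum_range_succ_mk,
        Finset.sum_range_succ] at h1 h2
      dsimp only at h1 h2
      rw [Nat.sub_self, h0, mul_zero, add_zero] at h1
      rw [Nat.sub_self, ← hΛ 0 (by omega), h0, mul_zero, add_zero] at h2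
      have h3 : (n : R) * coeff n F = (n : R) * coeff n G := by
        rw [h1, h2]
        apply Finset.sum_congr rfl
        intro k hk
        have hk' := Finset.mem_range.mp hk
        rw [ih k hk' (by omega), hΛ (n - k) (by omega)]
      have h4 : IsUnit (n : R) := by
        have : (n : R) = algebraMap ℚ R (n : ℚ) := by simp
        rw [this]
        exact (IsUnit.mk0 (n : ℚ) (by positivity)).map _
      exact h4.mul_left_cancel h3

end LD

section genus

variable {R : Type*} [CommRing R] [Algebra ℚ R]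

/-- the series `φ(w t)` over a `ℚ`-algebra -/
noncomputable def sc (w : R) (φ : ℚ⟦X⟧) : R⟦X⟧ :=
  PowerSeries.rescale w (PowerSeries.map (algebraMap ℚ R) φ)

lemma coeff_sc (w : R) (φ : ℚ⟦X⟧) (n : ℕ) : coeff n (sc w φ) = coeff n φ • w ^ n := by
  rw [sc, coeff_rescale, coeff_map, Algebra.smul_def, mul_comm]

lemma map_sc {S : Type*} [CommRing S] [Algebra ℚ S] (f : R →ₐ[ℚ] S) (w : R) (φ : ℚ⟦X⟧) :
    PowerSeries.map (f : R →+* S) (sc w φ) = sc (f w) φ := by
  ext n
  rw [coeff_map, coeff_sc, coeff_sc]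
  simp

/-- the logarithmic derivative of `t e^t/(e^t-1)` -/
noncomputable def Lbet : ℚ⟦X⟧ := X * derivative ℚ bet * bet⁻¹

lemma X_mul_derivative_bet : X * derivative ℚ bet = bet * Lbet := by
  have h := PowerSeries.mul_inv_cancel bet (by rw [constantCoeff_bet]; exact one_ne_zero)
  rw [Lbet]
  linear_combination (-(X * derivative ℚ bet)) * h

lemma coeff_zero_Lbet : coeff 0 Lbet = 0 := by
  rw [Lbet, mul_assoc, coeff_zero_X_mul]

lemma LD_sc (d : ℕ) (w : R) : LD d (sc w bet) (sc w Lbet) := by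
  apply LD.rescale
  apply LD.map
  intro n _
  rw [X_mul_derivative_bet]

/-- `∏ β(w_i t)` -/
noncomputable def Bser {ι : Type*} [Fintype ι] (w : ι → R) : R⟦X⟧ := ∏ i, sc (w i) bet

lemma LD_Bser {ι : Type*} [Fintype ι] (d : ℕ) (w : ι → R) :
    LD d (Bser w) (∑ i, sc (w i) Lbet) :=
  LD.prod _ _ _ (fun i _ => LD_sc d (w i))

lemma coeff_sum_sc {ι : Type*} [Fintype ι] (w : ι → R) (φ : ℚ⟦X⟧) (n : ℕ) :
    coeff n (∑ i, sc (w i) φ) = coeff n φ • ∑ i, w i ^ n := by
  rw [map_sum, Finset.smul_sum]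
  exact Finset.sum_congr rfl fun i _ => coeff_sc _ _ _

lemma coeff_zero_Bser {ι : Type*} [Fintype ι] (w : ι → R) : coeff 0 (Bser w) = 1 := by
  rw [Bser, coeff_zero_eq_constantCoeff_apply, map_prod]
  apply Finset.prod_eq_one
  intro i _
  rw [← coeff_zero_eq_constantCoeff_apply, coeff_sc, coeff_zero_eq_constantCoeff_apply,
    constantCoeff_bet]
  simp

/-- for nilpotent `w_i` the coefficients of `∏ β(w_i t)` add up to `∏ β(w_i)` -/
lemma exists_sum_coeff_Bser {ι : Type*} [Fintype ι] (w : ι → R) (hw : ∀ i, IsNilpotent (w i)) :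
    ∃ M₀ : ℕ, ∀ M, M₀ ≤ M → ∑ n ∈ range M, coeff n (Bser w) = ∏ i, ev (w i) (hw i) bet := by
  classical
  have hw' := hw
  choose N hN using hw'
  let p : ι → Polynomial R := fun i =>
    ∑ k ∈ range (N i), Polynomial.C (coeff k bet • w i ^ k) * Polynomial.X ^ k
  have hp : ∀ i, (p i : R⟦X⟧) = sc (w i) bet := by
    intro i
    ext n
    rw [Polynomial.coeff_coe, coeff_sc]
    simp only [p, Polynomial.finsetSum_coeff, Polynomial.coeff_C_mul, Polynomial.coeff_X_pow,
      mul_ite, mul_one, mul_zero]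
    rw [Finset.sum_ite_eq]
    split_ifs with h
    · rfl
    · rw [pow_eq_zero_of_le (by simpa using h) (hN i), smul_zero]
  have hp1 : ∀ i, (p i).eval 1 = ev (w i) (hw i) bet := by
    intro i
    rw [ev_eq_sum _ (hN i)]
    simp only [p, Polynomial.eval_finsetSum, Polynomial.eval_mul, Polynomial.eval_C,
      Polynomial.eval_pow, Polynomial.eval_X, one_pow, mul_one]
  have hB : Bser w = ((∏ i, p i : Polynomial R) : R⟦X⟧) := by
    have h1 : ((∏ i, p i : Polynomial R) : R⟦X⟧) = ∏ i, (p i : R⟦X⟧) :=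
      map_prod (Polynomial.coeToPowerSeries.ringHom (R := R)) _ _
    rw [h1, Bser]
    exact Finset.prod_congr rfl fun i _ => (hp i).symm
  refine ⟨(∏ i, p i).natDegree + 1, fun M hM => ?_⟩
  have h2 := Polynomial.eval_eq_sum_range' (p := ∏ i, p i) (n := M) (by omega) 1
  rw [Polynomial.eval_prod] at h2
  rw [Finset.prod_congr rfl (fun i _ => (hp1 i).symm), h2, hB]
  apply Finset.sum_congr rfl
  intro n _
  rw [Polynomial.coeff_coe, one_pow, mul_one]

end genus

section todd

/-- scaled evaluation of a polynomial in `d` variables: `X_i ↦ c_i t^{i+1}` -/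
noncomputable def scEv {R : Type*} [CommRing R] [Algebra ℚ R] {d : ℕ} (c : Fin d → R) :
    MvPolynomial (Fin d) ℚ →ₐ[ℚ] R⟦X⟧ :=
  MvPolynomial.aeval (fun i => C (c i) * X ^ (i.1 + 1))

lemma map_scEv {R S : Type*} [CommRing R] [Algebra ℚ R] [CommRing S] [Algebra ℚ S] {d : ℕ}
    (f : R →ₐ[ℚ] S) (c : Fin d → R) (G : MvPolynomial (Fin d) ℚ) :
    PowerSeries.map (f : R →+* S) (scEv c G) = scEv (fun i => f (c i)) G := by
  have h : ((PowerSeries.map (f : R →+* S)).comp (scEv c : MvPolynomial (Fin d) ℚ →+* R⟦X⟧)) =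
      (scEv (fun i => f (c i)) : MvPolynomial (Fin d) ℚ →+* S⟦X⟧) := by
    apply MvPolynomial.ringHom_ext
    · intro q
      have h1 : (scEv c : MvPolynomial (Fin d) ℚ →+* R⟦X⟧) (MvPolynomial.C q) =
          algebraMap ℚ R⟦X⟧ q := (scEv c).commutes q
      have h2 : (scEv (fun i => f (c i)) : MvPolynomial (Fin d) ℚ →+* S⟦X⟧) (MvPolynomial.C q) =
          algebraMap ℚ S⟦X⟧ q := (scEv (fun i => f (c i))).commutes q
      rw [RingHom.comp_apply, h1, h2]
      have h3 : algebraMap ℚ R⟦X⟧ q = C (algebraMap ℚ R q) := algebraMap_apply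
      have h4 : algebraMap ℚ S⟦X⟧ q = C (algebraMap ℚ S q) := algebraMap_apply
      rw [h3, h4, map_C]
      congr 1
      exact f.commutes q
    · intro i
      rw [RingHom.comp_apply]
      have h1 : (scEv c : MvPolynomial (Fin d) ℚ →+* R⟦X⟧) (MvPolynomial.X i) =
          C (c i) * X ^ (i.1 + 1) := MvPolynomial.aeval_X _ i
      have h2 : (scEv (fun i => f (c i)) : MvPolynomial (Fin d) ℚ →+* S⟦X⟧) (MvPolynomial.X i) =
          C (f (c i)) * X ^ (i.1 + 1) := MvPolynomial.aeval_X _ i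
      rw [h1, h2, map_mul, map_pow, map_C, map_X]
      rfl
  exact congrArg (fun g : MvPolynomial (Fin d) ℚ →+* S⟦X⟧ => g G) h

/-- the homomorphism `W_l ↦ W_l t` -/
noncomputable def lin (d : ℕ) : MvPolynomial (Fin d) ℚ →ₐ[ℚ] (MvPolynomial (Fin d) ℚ)⟦X⟧ :=
  MvPolynomial.aeval (fun l => C (MvPolynomial.X l) * X)

lemma map_symmHom_scEv (d : ℕ) (G : MvPolynomial (Fin d) ℚ) :
    PowerSeries.map (symmHom d) (scEv (fun i => (MvPolynomial.X i : MvPolynomial (Fin d) ℚ)) G) =
      lin d (symmHom d G) := by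
  have h : ((PowerSeries.map (symmHom d)).comp
      (scEv (fun i => (MvPolynomial.X i : MvPolynomial (Fin d) ℚ)) :
        MvPolynomial (Fin d) ℚ →+* (MvPolynomial (Fin d) ℚ)⟦X⟧)) =
      ((lin d : MvPolynomial (Fin d) ℚ →+* (MvPolynomial (Fin d) ℚ)⟦X⟧).comp (symmHom d)) := by
    have hq : ∀ q : ℚ, symmHom d (MvPolynomial.C q) = MvPolynomial.C q := by
      intro q
      change (MvPolynomial.symmetricSubalgebra (Fin d) ℚ).val.comp
        (MvPolynomial.esymmAlgEquiv (Fin d) ℚ (Fintype.card_fin d)).toAlgHom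
          (algebraMap ℚ (MvPolynomial (Fin d) ℚ) q) = _
      rw [AlgHom.commutes]
      rfl
    apply MvPolynomial.ringHom_ext
    · intro q
      rw [RingHom.comp_apply, RingHom.comp_apply, hq]
      have h1 : (scEv (fun i => (MvPolynomial.X i : MvPolynomial (Fin d) ℚ)) :
          MvPolynomial (Fin d) ℚ →+* (MvPolynomial (Fin d) ℚ)⟦X⟧) (MvPolynomial.C q) =
          C (MvPolynomial.C q) := by
        refine ((scEv (fun i => (MvPolynomial.X i : MvPolynomial (Fin d) ℚ))).commutes q).trans ?_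
        exact algebraMap_apply
      have h2 : (lin d : MvPolynomial (Fin d) ℚ →+* (MvPolynomial (Fin d) ℚ)⟦X⟧)
          (MvPolynomial.C q) = C (MvPolynomial.C q) :=
        ((lin d).commutes q).trans algebraMap_apply
      rw [h1, h2, map_C, hq]
    · intro i
      rw [RingHom.comp_apply, RingHom.comp_apply]
      have h1 : (scEv (fun i => (MvPolynomial.X i : MvPolynomial (Fin d) ℚ)) :
          MvPolynomial (Fin d) ℚ →+* (MvPolynomial (Fin d) ℚ)⟦X⟧) (MvPolynomial.X i) =
          C (MvPolynomial.X i) * X ^ (i.1 + 1) := MvPolynomial.aeval_X _ i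
      have h2 : symmHom d (MvPolynomial.X i) = MvPolynomial.esymm (Fin d) ℚ (i + 1) := by
        rw [← varSeq_succ d i, varSeq, symmHom_symm]
      rw [h1, map_mul, map_pow, map_C, map_X, h2, MvPolynomial.esymm]
      have h3 : (lin d : MvPolynomial (Fin d) ℚ →+* (MvPolynomial (Fin d) ℚ)⟦X⟧)
          (∑ t ∈ powersetCard (i.1 + 1) univ, ∏ l ∈ t, MvPolynomial.X l) =
          ∑ t ∈ powersetCard (i.1 + 1) univ, ∏ l ∈ t, (C (MvPolynomial.X l) * X) := by
        rw [map_sum]
        apply Finset.sum_congr rfl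
        intro t _
        rw [map_prod]
        apply Finset.prod_congr rfl
        intro l _
        exact MvPolynomial.aeval_X _ l
      rw [h3, map_sum, Finset.sum_mul]
      apply Finset.sum_congr rfl
      intro t ht
      rw [Finset.prod_mul_distrib, Finset.prod_const, (Finset.mem_powersetCard.mp ht).2, map_prod]
  exact congrArg (fun g : MvPolynomial (Fin d) ℚ →+* (MvPolynomial (Fin d) ℚ)⟦X⟧ => g G) h

lemma lin_symmHom_toddPoly (d : ℕ) : lin d (symmHom d (KGr.toddPoly d)) =
    ∏ i : Fin d, Polynomial.aeval (C (MvPolynomial.X i) * X :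
      (MvPolynomial (Fin d) ℚ)⟦X⟧) (KGr.toddTrunc d) := by
  rw [KGr.toddPoly, symmHom_symm]
  dsimp only
  rw [map_prod]
  apply Finset.prod_congr rfl
  intro i _
  rw [← Polynomial.aeval_algHom_apply]
  congr 2
  exact MvPolynomial.aeval_X _ i

lemma coeff_aeval_toddTrunc {R : Type*} [CommRing R] [Algebra ℚ R] (d : ℕ) (w : R) (n : ℕ)
    (hn : n ≤ d) : coeff n (Polynomial.aeval (C w * X : R⟦X⟧) (KGr.toddTrunc d)) =
      coeff n (sc w bet) := by
  rw [coeff_sc, coeff_bet, KGr.toddTrunc, map_sum, map_sum]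
  rw [Finset.sum_eq_single n]
  · rw [map_mul, Polynomial.aeval_C, map_pow, Polynomial.aeval_X]
    have h3 : algebraMap ℚ R⟦X⟧ (bernoulli' n / (n.factorial : ℚ)) =
        C (algebraMap ℚ R (bernoulli' n / (n.factorial : ℚ))) := algebraMap_apply
    rw [h3, coeff_C_mul, mul_pow, ← map_pow, coeff_C_mul, coeff_X_pow, if_pos rfl, mul_one,
      Algebra.smul_def]
  · intro k _ hk
    rw [map_mul, Polynomial.aeval_C, map_pow, Polynomial.aeval_X]
    have h3 : algebraMap ℚ R⟦X⟧ (bernoulli' k / (k.factorial : ℚ)) =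
        C (algebraMap ℚ R (bernoulli' k / (k.factorial : ℚ))) := algebraMap_apply
    rw [h3, coeff_C_mul, mul_pow, ← map_pow, coeff_C_mul, coeff_X_pow, if_neg (Ne.symm hk),
      mul_zero, mul_zero]
  · intro h
    exact absurd (Finset.mem_range.mpr (by omega)) h

lemma coeff_prod_congr {R : Type*} [CommRing R] {ι : Type*} (s : Finset ι) {d : ℕ}
    (F G : ι → R⟦X⟧) (h : ∀ i ∈ s, ∀ k ≤ d, coeff k (F i) = coeff k (G i)) :
    ∀ k ≤ d, coeff k (∏ i ∈ s, F i) = coeff k (∏ i ∈ s, G i) := by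
  classical
  induction s using Finset.induction_on with
  | empty => intro k _; rfl
  | insert a s ha ih =>
    intro k hk
    rw [Finset.prod_insert ha, Finset.prod_insert ha]
    exact coeff_mul_congr hk (h a (Finset.mem_insert_self _ _))
      (ih (fun i hi => h i (Finset.mem_insert_of_mem hi)))

/-- the logarithmic derivative of the (scaled) Todd polynomial -/
theorem LD_toddPoly (d : ℕ) :
    LD d (scEv (fun i => (MvPolynomial.X i : MvPolynomial (Fin d) ℚ)) (KGr.toddPoly d))
      (PowerSeries.mk fun n => coeff n Lbet • psumPoly d n) := by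
  apply LD.of_map (symmHom d) (symmHom_injective d)
  rw [map_symmHom_scEv, lin_symmHom_toddPoly]
  refine (LD_Bser (R := MvPolynomial (Fin d) ℚ) d (fun i : Fin d => MvPolynomial.X i)).congr ?_ ?_
  · intro k hk
    rw [Bser]
    exact coeff_prod_congr _ _ _ (fun i _ k hk => (coeff_aeval_toddTrunc d _ k hk).symm) k hk
  · intro k _
    rw [coeff_sum_sc, coeff_map, coeff_mk]
    have hq : ∀ (q : ℚ) (G : MvPolynomial (Fin d) ℚ), symmHom d (q • G) = q • symmHom d G := by
      intro q G
      change (MvPolynomial.symmetricSubalgebra (Fin d) ℚ).val.comp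
        (MvPolynomial.esymmAlgEquiv (Fin d) ℚ (Fintype.card_fin d)).toAlgHom (q • G) = _
      rw [map_smul]
      rfl
    rw [hq, psumPoly, symmHom_symm]
    rfl

end todd

end Groth.Agent.Krr.H491.LogDer
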