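import Mathlib.RingTheory.PowerSeries.Exp
import Mathlib.RingTheory.PowerSeries.Trunc
import Mathlib.RingTheory.PowerSeries.Derivative
import Mathlib.RingTheory.PowerSeries.Inverse
import Mathlib.NumberTheory.Bernoulli
import Mathlib.RingTheory.Nilpotent.Exp
import Mathlib.Algebra.Ring.GeomSum
import Mathlib.Tactic.LinearCombination

/-!
# Evaluation of rational power series at nilpotent elements; exponential and logarithm
-/

set_option autoImplicit false

open PowerSeries Finset

namespace Groth.Agent.Krr.H491.NilEval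

variable {R : Type*} [CommRing R] [Algebra ℚ R]

lemma aeval_trunc_coe {a : R} {N : ℕ} (ha : a ^ N = 0) (p : Polynomial ℚ) :
    Polynomial.aeval a (trunc N (p : ℚ⟦X⟧)) = Polynomial.aeval a p := by
  have h : Polynomial.X ^ N ∣ p - trunc N (p : ℚ⟦X⟧) := by
    rw [Polynomial.X_pow_dvd_iff]
    intro k hk
    rw [Polynomial.coeff_sub, coeff_trunc, if_pos hk, Polynomial.coeff_coe, sub_self]
  obtain ⟨q, hq⟩ := h
  have h2 := congrArg (Polynomial.aeval a) hq
  rw [map_sub, map_mul, map_pow, Polynomial.aeval_X, ha, zero_mul, sub_eq_zero] at h2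
  exact h2.symm

/-- evaluation of a rational power series at an element with `a ^ N = 0` -/
noncomputable def evN (a : R) (N : ℕ) (ha : a ^ N = 0) : ℚ⟦X⟧ →ₐ[ℚ] R where
  toFun φ := Polynomial.aeval a (trunc N φ)
  map_one' := by
    have := aeval_trunc_coe ha (1 : Polynomial ℚ)
    rwa [Polynomial.coe_one, map_one (Polynomial.aeval a)] at this
  map_mul' φ ψ := by
    rw [← map_mul, ← trunc_trunc_mul_trunc, ← Polynomial.coe_mul, aeval_trunc_coe ha]
  map_zero' := by simp
  map_add' φ ψ := by rw [map_add, map_add]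
  commutes' q := by
    have := aeval_trunc_coe ha (Polynomial.C q)
    rw [Polynomial.coe_C, Polynomial.aeval_C] at this
    exact this

lemma evN_eq_sum {a : R} {N : ℕ} (ha : a ^ N = 0) (φ : ℚ⟦X⟧) :
    evN a N ha φ = ∑ k ∈ range N, coeff k φ • a ^ k := by
  change Polynomial.aeval a (trunc N φ) = _
  rw [Polynomial.aeval_def, eval₂_trunc_eq_sum_range]
  apply Finset.sum_congr rfl
  intro k _
  rw [Algebra.smul_def]

lemma sum_eq_of_le {a : R} {N M : ℕ} (ha : a ^ N = 0) (h : N ≤ M) (φ : ℚ⟦X⟧) :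
    ∑ k ∈ range M, coeff k φ • a ^ k = ∑ k ∈ range N, coeff k φ • a ^ k := by
  symm
  apply Finset.sum_subset (fun i hi => by simp only [mem_range] at hi ⊢; omega)
  intro i _ hi
  rw [pow_eq_zero_of_le (by simpa using hi) ha, smul_zero]

/-- evaluation of a rational power series at a nilpotent element -/
noncomputable def ev (a : R) (ha : IsNilpotent a) : ℚ⟦X⟧ →ₐ[ℚ] R :=
  evN a ha.choose ha.choose_spec

lemma ev_eq_sum {a : R} (ha : IsNilpotent a) {N : ℕ} (hN : a ^ N = 0) (φ : ℚ⟦X⟧) :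
    ev a ha φ = ∑ k ∈ range N, coeff k φ • a ^ k := by
  rw [ev, evN_eq_sum]
  rcases le_total N ha.choose with h | h
  · exact sum_eq_of_le hN h φ
  · exact (sum_eq_of_le ha.choose_spec h φ).symm

lemma ev_X {a : R} (ha : IsNilpotent a) : ev a ha X = a := by
  obtain ⟨N, hN⟩ := ha
  have h2 : a ^ (N + 2) = 0 := pow_eq_zero_of_le (by omega) hN
  rw [ev_eq_sum _ h2, Finset.sum_eq_single 1]
  · simp
  · intro k _ hk
    rw [coeff_X, if_neg hk, zero_smul]
  · intro h
    exact absurd (by simp) h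

lemma ev_exp {a : R} (ha : IsNilpotent a) : ev a ha (exp ℚ) = IsNilpotent.exp a := by
  obtain ⟨N, hN⟩ := ha
  rw [ev_eq_sum _ hN, IsNilpotent.exp_eq_sum hN]
  apply Finset.sum_congr rfl
  intro k _
  rw [coeff_exp]
  simp

lemma map_ev {S : Type*} [CommRing S] [Algebra ℚ S] (f : R →ₐ[ℚ] S) {a : R} (ha : IsNilpotent a)
    (φ : ℚ⟦X⟧) : f (ev a ha φ) = ev (f a) (ha.map f) φ := by
  obtain ⟨N, hN⟩ := ha
  have h2 : f a ^ N = 0 := by rw [← map_pow, hN, map_zero]
  rw [ev_eq_sum _ hN, ev_eq_sum _ h2, map_sum]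
  apply Finset.sum_congr rfl
  intro k _
  rw [map_smul, map_pow]

lemma ev_congr {a b : R} (hab : a = b) (ha : IsNilpotent a) (φ : ℚ⟦X⟧) :
    ev a ha φ = ev b (hab ▸ ha) φ := by subst hab; rfl

lemma ev_smul {a : R} (ha : IsNilpotent a) (c : ℚ) (φ : ℚ⟦X⟧) :
    ev (c • a) (ha.smul c) φ = ev a ha (rescale c φ) := by
  obtain ⟨N, hN⟩ := ha
  have h2 : (c • a) ^ N = 0 := by rw [smul_pow, hN, smul_zero]
  rw [ev_eq_sum _ hN, ev_eq_sum _ h2]
  apply Finset.sum_congr rfl
  intro k _
  rw [coeff_rescale, smul_pow, smul_smul, mul_comm]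

lemma exp_add {a b : R} (ha : IsNilpotent a) (hb : IsNilpotent b) :
    IsNilpotent.exp (a + b) = IsNilpotent.exp a * IsNilpotent.exp b :=
  IsNilpotent.exp_add_of_commute (Commute.all a b) ha hb

lemma exp_zero : IsNilpotent.exp (0 : R) = 1 := by
  rw [IsNilpotent.exp_eq_sum (k := 1) (by simp)]
  simp

lemma exp_mul_exp_neg {a : R} (ha : IsNilpotent a) :
    IsNilpotent.exp a * IsNilpotent.exp (-a) = 1 := by
  rw [← exp_add ha ha.neg, add_neg_cancel, exp_zero]

/-- `exp c = 1` only for `c = 0` -/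
lemma eq_zero_of_exp_eq_one {c : R} (hc : IsNilpotent c) (h : IsNilpotent.exp c = 1) : c = 0 := by
  have h1 : (X : ℚ⟦X⟧) ∣ exp ℚ - 1 := by
    rw [X_dvd_iff]
    simp
  obtain ⟨g, hg⟩ := h1
  have hg0 : constantCoeff g = 1 := by
    have := congrArg (coeff 1) hg
    rw [show (1 : ℕ) = 0 + 1 from rfl, coeff_succ_X_mul, map_sub, coeff_exp, coeff_one,
      if_neg (by omega)] at this
    rw [← coeff_zero_eq_constantCoeff_apply, ← this]
    simp
  have hu : IsUnit (ev c hc g) := by
    apply IsUnit.map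
    rw [PowerSeries.isUnit_iff_constantCoeff, hg0]
    exact isUnit_one
  have h2 := congrArg (ev c hc) hg
  rw [map_sub, map_one, map_mul, ev_exp, ev_X, h, sub_self] at h2
  exact (hu.mul_left_eq_zero).mp h2.symm

/-- the exponential is injective on nilpotent elements -/
lemma exp_injective {a b : R} (ha : IsNilpotent a) (hb : IsNilpotent b)
    (h : IsNilpotent.exp a = IsNilpotent.exp b) : a = b := by
  have hab : IsNilpotent (a - b) := (Commute.all a b).isNilpotent_sub ha hb
  have h1 : IsNilpotent.exp (a - b) = 1 := by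
    rw [sub_eq_add_neg, exp_add ha hb.neg, h, exp_mul_exp_neg hb]
  exact sub_eq_zero.mp (eq_zero_of_exp_eq_one hab h1)

/-- existence of logarithms of unipotent elements -/
lemma exists_log (N : ℕ) : ∀ x : R, x ^ N = 0 → ∃ w : R, IsNilpotent w ∧
    IsNilpotent.exp w = 1 + x := by
  induction N using Nat.strong_induction_on with
  | _ N ih =>
    intro x hx
    rcases Nat.lt_or_ge N 2 with h2 | h2
    · have hx0 : x = 0 := by
        interval_cases N
        · rw [pow_zero] at hx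
          rw [← mul_one x, hx, mul_zero]
        · simpa using hx
      exact ⟨0, IsNilpotent.zero, by rw [exp_zero, hx0, add_zero]⟩
    · have hxn : IsNilpotent x := ⟨N, hx⟩
      have h1 : (X : ℚ⟦X⟧) ^ 2 ∣ (1 + X) * rescale (-1 : ℚ) (exp ℚ) - 1 := by
        rw [X_pow_dvd_iff]
        intro m hm
        rw [map_sub, add_mul, one_mul, map_add, coeff_rescale]
        interval_cases m
        · simp
        · rw [show (1 : ℕ) = 0 + 1 from rfl, coeff_succ_X_mul, coeff_rescale, coeff_one]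
          simp
      obtain ⟨g, hg⟩ := h1
      have h3 := congrArg (ev x hxn) hg
      have hneg : ev x hxn (rescale (-1 : ℚ) (exp ℚ)) = IsNilpotent.exp (-x) := by
        rw [← ev_smul, ev_congr (show (-1 : ℚ) • x = -x by simp), ev_exp]
      rw [map_sub, map_mul, map_add, map_one, ev_X, hneg, map_mul, map_pow, ev_X] at h3
      have h4 : ((1 + x) * IsNilpotent.exp (-x) - 1) ^ ((N + 1) / 2) = 0 := by
        rw [h3, mul_pow, ← pow_mul, pow_eq_zero_of_le (by omega) hx, zero_mul]
      obtain ⟨w, hw, hw2⟩ := ih ((N + 1) / 2) (by omega) _ h4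
      refine ⟨x + w, (Commute.all x w).isNilpotent_add hxn hw, ?_⟩
      rw [exp_add hxn hw, hw2]
      have h5 := exp_mul_exp_neg hxn
      linear_combination (1 + x) * h5

lemma exists_log' {u : R} (hu : IsNilpotent (u - 1)) : ∃ w : R, IsNilpotent w ∧
    IsNilpotent.exp w = u := by
  obtain ⟨N, hN⟩ := hu
  obtain ⟨w, hw, hw2⟩ := exists_log N _ hN
  exact ⟨w, hw, by rw [hw2]; ring⟩

lemma exp_natCast_smul {w : R} (hw : IsNilpotent w) (j : ℕ) :
    IsNilpotent.exp ((j : ℚ) • w) = IsNilpotent.exp w ^ j := by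
  rw [← ev_exp (hw.smul (j : ℚ)), ev_smul hw, ← ev_exp hw, ← map_pow, exp_pow_eq_rescale_exp]

lemma exp_neg_mul {w : R} (hw : IsNilpotent w) :
    IsNilpotent.exp (-w) * IsNilpotent.exp w = 1 := by
  rw [mul_comm, exp_mul_exp_neg hw]

section todd

/-- the series `t e^t/(e^t - 1)` -/
noncomputable def bet : ℚ⟦X⟧ := bernoulli'PowerSeries ℚ

lemma coeff_bet (n : ℕ) : coeff n bet = bernoulli' n / (n.factorial : ℚ) := by
  simp [bet, bernoulli'PowerSeries]

lemma constantCoeff_bet : constantCoeff bet = 1 := by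
  rw [← coeff_zero_eq_constantCoeff_apply, coeff_bet]
  simp

lemma rescale_X' (c : ℚ) : rescale c (X : ℚ⟦X⟧) = C c * X := rescale_X c

lemma rescale_bet (c : ℚ) : rescale (-c) bet * (rescale c (exp ℚ) - 1) = C c * X := by
  have h := congrArg (rescale (-c)) (bernoulli'PowerSeries_mul_exp_sub_one ℚ)
  rw [map_mul, map_sub, map_one, map_mul, rescale_X', map_neg] at h
  change rescale (-c) bet * (rescale (-c) (exp ℚ) - 1) = _ at h
  have h2 := exp_mul_exp_eq_exp_add c (-c)
  rw [add_neg_cancel] at h2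
  have h3 : rescale (0 : ℚ) (exp ℚ) = 1 := by
    ext n
    rw [coeff_rescale, coeff_one]
    rcases n with _ | n
    · simp
    · simp
  rw [h3] at h2
  linear_combination (-(rescale c (exp ℚ))) * h + (rescale (-c) bet + C c * X) * h2

lemma exp_sub_one_ne_zero : (exp ℚ - 1 : ℚ⟦X⟧) ≠ 0 := by
  intro h
  have := congrArg (coeff 1) h
  rw [map_sub, coeff_exp, coeff_one] at this
  simp at this

/-- `(1 + e^t + ⋯ + e^{(j-1)t}) β(-jt) = j β(-t)` -/
lemma geom_mul_bet (j : ℕ) : (∑ k ∈ range j, exp ℚ ^ k) * rescale (-(j : ℚ)) bet =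
    C (j : ℚ) * rescale (-1 : ℚ) bet := by
  have h1 := rescale_bet (j : ℚ)
  have h2 := rescale_bet (1 : ℚ)
  have h3 : rescale (1 : ℚ) (exp ℚ) = exp ℚ := by rw [rescale_one]; rfl
  rw [h3] at h2
  have h4 := geom_sum_mul (exp ℚ) j
  rw [exp_pow_eq_rescale_exp] at h4
  apply mul_left_cancel₀ exp_sub_one_ne_zero
  have h5 : (C (1 : ℚ) : ℚ⟦X⟧) = 1 := map_one _
  rw [h5] at h2
  linear_combination (rescale (-(j : ℚ)) bet) * h4 + h1 - C (j : ℚ) * h2

/-- the same identity at a nilpotent element -/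
lemma geom_exp_mul_ev {w : R} (hw : IsNilpotent w) (j : ℕ) :
    (∑ k ∈ range j, IsNilpotent.exp w ^ k) * ev ((-(j : ℚ)) • w) (hw.smul _) bet =
      (j : R) * ev ((-1 : ℚ) • w) (hw.smul _) bet := by
  rw [ev_smul hw, ev_smul hw]
  have h := congrArg (ev w hw) (geom_mul_bet j)
  rw [map_mul, map_mul, map_sum] at h
  simp only [map_pow, ev_exp] at h
  rw [h]
  congr 1
  have : (C (j : ℚ) : ℚ⟦X⟧) = (j : ℚ⟦X⟧) := map_natCast _ j
  rw [this, map_natCast]

end todd

end Groth.Agent.Krr.H491.NilEval
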