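import Groth.Agent.Krr.H491.LogDer

/-!
# The Todd polynomial in a graded `ℚ`-algebra that vanishes in degrees `> d`
-/

set_option autoImplicit false

open PowerSeries

namespace Groth.Agent.Krr.H491.ToddAlg

open Groth.Agent.Krr.H493.Newton
open Groth.Agent.Krr.H491.LogDer Groth.Agent.Krr.H491.NilEval

section formal

variable {R : Type*} [CommRing R]

lemma sum_mul_sum_eq {d : ℕ} (f g : ℕ → R) (h : ∀ a b, d < a + b → f a * g b = 0) :
    (∑ a ∈ Finset.range (d + 1), f a) * (∑ b ∈ Finset.range (d + 1), g b) =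
      ∑ n ∈ Finset.range (d + 1), ∑ k ∈ Finset.range (n + 1), f k * g (n - k) := by
  rw [Finset.sum_range_diag_flip (d + 1) (fun a b => f a * g b), Finset.sum_mul_sum]
  apply Finset.sum_congr rfl
  intro a ha
  have ha' := Finset.mem_range.mp ha
  symm
  apply Finset.sum_subset
  · intro b hb
    simp only [Finset.mem_range] at hb ⊢
    omega
  · intro b hb hb'
    simp only [Finset.mem_range] at hb hb'
    exact h a b (by omega)

lemma sum_coeff_mul {d : ℕ} (F G : R⟦X⟧) (h : ∀ a b, d < a + b → coeff a F * coeff b G = 0) :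
    (∑ a ∈ Finset.range (d + 1), coeff a F) * (∑ b ∈ Finset.range (d + 1), coeff b G) =
      ∑ n ∈ Finset.range (d + 1), coeff n (F * G) := by
  rw [sum_mul_sum_eq _ _ h]
  apply Finset.sum_congr rfl
  intro n _
  rw [coeff_mul, Finset.Nat.sum_antidiagonal_eq_sum_range_succ_mk]

lemma coeff_zero_scEv_toddPoly_univ (d : ℕ) :
    coeff 0 (scEv (fun i => (MvPolynomial.X i : MvPolynomial (Fin d) ℚ)) (KGr.toddPoly d)) =
      1 := by
  apply symmHom_injective d
  rw [← coeff_map, map_symmHom_scEv, lin_symmHom_toddPoly, map_one,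
    coeff_prod_congr (d := d) Finset.univ _ _
      (fun i _ k hk => coeff_aeval_toddTrunc d (MvPolynomial.X i : MvPolynomial (Fin d) ℚ) k hk)
      0 (Nat.zero_le _)]
  exact coeff_zero_Bser _

variable [Algebra ℚ R]

lemma scEv_eq_map {d : ℕ} (c : Fin d → R) (G : MvPolynomial (Fin d) ℚ) : scEv c G =
    PowerSeries.map ((MvPolynomial.aeval c : MvPolynomial (Fin d) ℚ →ₐ[ℚ] R) :
      MvPolynomial (Fin d) ℚ →+* R)
      (scEv (fun i => (MvPolynomial.X i : MvPolynomial (Fin d) ℚ)) G) := by
  rw [map_scEv]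
  simp only [MvPolynomial.aeval_X]

lemma coeff_zero_scEv_toddPoly {d : ℕ} (c : Fin d → R) :
    coeff 0 (scEv c (KGr.toddPoly d)) = 1 := by
  rw [scEv_eq_map, coeff_map, coeff_zero_scEv_toddPoly_univ, map_one]

/-- polynomial version of `scEv` -/
noncomputable def scEvP {d : ℕ} (c : Fin d → R) :
    MvPolynomial (Fin d) ℚ →ₐ[ℚ] Polynomial R :=
  MvPolynomial.aeval (fun i => Polynomial.C (c i) * Polynomial.X ^ (i.1 + 1))

lemma coe_scEvP {d : ℕ} (c : Fin d → R) (G : MvPolynomial (Fin d) ℚ) :
    (scEvP c G : R⟦X⟧) = scEv c G := by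
  induction G using MvPolynomial.induction_on with
  | C q =>
    have h1 : scEv c (MvPolynomial.C q) = C (algebraMap ℚ R q) :=
      ((scEv c).commutes q).trans algebraMap_apply
    have h2 : scEvP c (MvPolynomial.C q) = Polynomial.C (algebraMap ℚ R q) :=
      (scEvP c).commutes q
    rw [h1, h2, Polynomial.coe_C]
  | add p q hp hq => rw [map_add, map_add, Polynomial.coe_add, hp, hq]
  | mul_X p i hp =>
    rw [map_mul, map_mul, Polynomial.coe_mul, hp]
    congr 1
    have h1 : scEv c (MvPolynomial.X i) = C (c i) * X ^ (i.1 + 1) := MvPolynomial.aeval_X _ i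
    have h2 : scEvP c (MvPolynomial.X i) = Polynomial.C (c i) * Polynomial.X ^ (i.1 + 1) :=
      MvPolynomial.aeval_X _ i
    rw [h1, h2, Polynomial.coe_mul, Polynomial.coe_pow, Polynomial.coe_C, Polynomial.coe_X]

lemma eval_one_scEvP {d : ℕ} (c : Fin d → R) (G : MvPolynomial (Fin d) ℚ) :
    (scEvP c G).eval 1 = MvPolynomial.aeval c G := by
  induction G using MvPolynomial.induction_on with
  | C q =>
    have h2 : scEvP c (MvPolynomial.C q) = Polynomial.C (algebraMap ℚ R q) :=
      (scEvP c).commutes q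
    rw [h2, Polynomial.eval_C, MvPolynomial.aeval_C]
  | add p q hp hq => rw [map_add, map_add, Polynomial.eval_add, hp, hq]
  | mul_X p i hp =>
    have h2 : scEvP c (MvPolynomial.X i) = Polynomial.C (c i) * Polynomial.X ^ (i.1 + 1) :=
      MvPolynomial.aeval_X _ i
    rw [map_mul, map_mul, Polynomial.eval_mul, hp, h2, MvPolynomial.aeval_X]
    simp

lemma aeval_eq_sum_coeff_scEv {d : ℕ} (c : Fin d → R) (G : MvPolynomial (Fin d) ℚ)
    (h : ∀ n, d < n → coeff n (scEv c G) = 0) :
    MvPolynomial.aeval c G = ∑ n ∈ Finset.range (d + 1), coeff n (scEv c G) := by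
  rw [← eval_one_scEvP, Polynomial.eval_eq_sum_range' (n := max ((scEvP c G).natDegree + 1) (d + 1))
    (by omega)]
  symm
  apply Finset.sum_subset_zero_on_sdiff
  · intro i hi
    simp only [Finset.mem_range] at hi ⊢
    omega
  · intro n hn
    rw [Finset.mem_sdiff, Finset.mem_range, Finset.mem_range] at hn
    rw [one_pow, mul_one, ← Polynomial.coeff_coe, coe_scEvP]
    exact h n (by omega)
  · intro n _
    rw [one_pow, mul_one, ← coe_scEvP, Polynomial.coeff_coe]

lemma LD_scEv_toddPoly {d : ℕ} (c : Fin d → R) (p : ℕ → R)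
    (hp : ∀ n, 1 ≤ n → n ≤ d → MvPolynomial.aeval c (psumPoly d n) = p n) :
    LD d (scEv c (KGr.toddPoly d)) (PowerSeries.mk fun n => coeff n Lbet • p n) := by
  have h := (LD_toddPoly d).map ((MvPolynomial.aeval c :
    MvPolynomial (Fin d) ℚ →ₐ[ℚ] R) : MvPolynomial (Fin d) ℚ →+* R)
  rw [← scEv_eq_map] at h
  refine h.congr (fun _ _ => rfl) ?_
  intro n hn
  rw [coeff_map, coeff_mk, coeff_mk]
  rcases Nat.eq_zero_or_pos n with rfl | hpos
  · rw [coeff_zero_Lbet, zero_smul, zero_smul, map_zero]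
  · have h2 := hp n hpos hn
    change MvPolynomial.aeval c (coeff n Lbet • psumPoly d n) = _
    rw [map_smul, h2]

end formal

section graded

variable {R : Type*} [CommRing R] [Algebra ℚ R]

/-- a grading that vanishes above `d` (only what is needed) -/
structure IsGr (d : ℕ) (H : ℕ → Submodule ℚ R) : Prop where
  one_mem : (1 : R) ∈ H 0
  mul_mem : ∀ {a b : ℕ} {x y : R}, x ∈ H a → y ∈ H b → x * y ∈ H (a + b)
  eq_zero : ∀ {n : ℕ}, d < n → ∀ {z : R}, z ∈ H n → z = 0

variable {d : ℕ} {H : ℕ → Submodule ℚ R}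

lemma coeff_scEv_mem (hH : IsGr d H) (c : Fin d → R) (hc : ∀ i, c i ∈ H (i.1 + 1))
    (G : MvPolynomial (Fin d) ℚ) : ∀ n, coeff n (scEv c G) ∈ H n := by
  induction G using MvPolynomial.induction_on with
  | C q =>
    intro n
    have h1 : scEv c (MvPolynomial.C q) = C (algebraMap ℚ R q) :=
      ((scEv c).commutes q).trans algebraMap_apply
    rw [h1, coeff_C]
    split_ifs with h
    · subst h
      rw [Algebra.algebraMap_eq_smul_one]
      exact Submodule.smul_mem _ _ hH.one_mem
    · exact Submodule.zero_mem _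
  | add p q hp hq =>
    intro n
    rw [map_add, map_add]
    exact Submodule.add_mem _ (hp n) (hq n)
  | mul_X p i hp =>
    intro n
    rw [map_mul]
    have h1 : scEv c (MvPolynomial.X i) = C (c i) * X ^ (i.1 + 1) := MvPolynomial.aeval_X _ i
    rw [h1, ← mul_assoc, coeff_mul_X_pow']
    split_ifs with h
    · rw [coeff_mul_C]
      have := hH.mul_mem (hp (n - (i.1 + 1))) (hc i)
      rwa [Nat.sub_add_cancel h] at this
    · exact Submodule.zero_mem _

lemma aeval_eq_sum (hH : IsGr d H) (c : Fin d → R) (hc : ∀ i, c i ∈ H (i.1 + 1))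
    (G : MvPolynomial (Fin d) ℚ) :
    MvPolynomial.aeval c G = ∑ n ∈ Finset.range (d + 1), coeff n (scEv c G) :=
  aeval_eq_sum_coeff_scEv c G (fun n hn => hH.eq_zero hn (coeff_scEv_mem hH c hc G n))

/-- the value of the Todd polynomial is determined by the power sums, and multiplicative -/
theorem todd_mul (hH : IsGr d H) (c c' c'' : Fin d → R) (hc : ∀ i, c i ∈ H (i.1 + 1))
    (hc' : ∀ i, c' i ∈ H (i.1 + 1)) (hc'' : ∀ i, c'' i ∈ H (i.1 + 1))
    (h : ∀ n, 1 ≤ n → n ≤ d → MvPolynomial.aeval c'' (psumPoly d n) =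
      MvPolynomial.aeval c (psumPoly d n) + MvPolynomial.aeval c' (psumPoly d n)) :
    MvPolynomial.aeval c'' (KGr.toddPoly d) =
      MvPolynomial.aeval c (KGr.toddPoly d) * MvPolynomial.aeval c' (KGr.toddPoly d) := by
  rw [aeval_eq_sum hH c'' hc'', aeval_eq_sum hH c hc, aeval_eq_sum hH c' hc',
    sum_coeff_mul (scEv c (KGr.toddPoly d)) (scEv c' (KGr.toddPoly d))]
  · apply Finset.sum_congr rfl
    intro n hn
    have h1 := LD_scEv_toddPoly c (fun n => MvPolynomial.aeval c (psumPoly d n))
      (fun _ _ _ => rfl)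
    have h2 := LD_scEv_toddPoly c' (fun n => MvPolynomial.aeval c' (psumPoly d n))
      (fun _ _ _ => rfl)
    have h3 := LD_scEv_toddPoly c'' (fun n => MvPolynomial.aeval c (psumPoly d n) +
      MvPolynomial.aeval c' (psumPoly d n)) h
    refine h3.unique (h1.mul h2) ?_ ?_ ?_ n (by have := Finset.mem_range.mp hn; omega)
    · intro k _
      rw [map_add, coeff_mk, coeff_mk, coeff_mk, smul_add]
    · rw [coeff_mk, coeff_zero_Lbet, zero_smul]
    · rw [coeff_zero_scEv_toddPoly, coeff_zero_eq_constantCoeff_apply, map_mul,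
        ← coeff_zero_eq_constantCoeff_apply, ← coeff_zero_eq_constantCoeff_apply,
        coeff_zero_scEv_toddPoly, coeff_zero_scEv_toddPoly, one_mul]
  · intro a b hab
    exact hH.eq_zero hab (hH.mul_mem (coeff_scEv_mem hH c hc _ a) (coeff_scEv_mem hH c' hc' _ b))

lemma isUnit_natCast {n : ℕ} (hn : 1 ≤ n) : IsUnit (n : R) := by
  have : (n : R) = algebraMap ℚ R (n : ℚ) := by simp
  rw [this]
  exact (IsUnit.mk0 (n : ℚ) (by positivity)).map _

/-- the value of the Todd polynomial through nilpotent roots in an extension -/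
theorem map_todd_eq_prod (hH : IsGr d H) (c : Fin d → R) (hc : ∀ i, c i ∈ H (i.1 + 1))
    {S : Type*} [CommRing S] [Algebra ℚ S] (g : R →ₐ[ℚ] S) {ι : Type*} [Fintype ι] (w : ι → S)
    (hw : ∀ i, IsNilpotent (w i)) (p : ℕ → R) (hpH : ∀ n, p n ∈ H n)
    (hp : ∀ n, 1 ≤ n → n ≤ d → MvPolynomial.aeval c (psumPoly d n) = p n)
    (hgp : ∀ n, 1 ≤ n → g (p n) = ∑ i, w i ^ n) :
    g (MvPolynomial.aeval c (KGr.toddPoly d)) = ∏ i, ev (w i) (hw i) bet := by
  have hB : ∀ n, coeff n (Bser w) ∈ (H n).map g.toLinearMap := by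
    intro n
    induction n using Nat.strong_induction_on with
    | _ n ih =>
      rcases Nat.eq_zero_or_pos n with rfl | hpos
      · rw [coeff_zero_Bser]
        exact ⟨1, hH.one_mem, map_one g⟩
      · have h1 := LD_Bser n w n le_rfl
        rw [coeff_X_mul_derivative, coeff_mul, Finset.Nat.sum_antidiagonal_eq_sum_range_succ_mk,
          Finset.sum_range_succ] at h1
        dsimp only at h1
        rw [Nat.sub_self, coeff_sum_sc, coeff_zero_Lbet, zero_smul, mul_zero, add_zero] at h1
        have h2 : (n : ℚ) • coeff n (Bser w) ∈ (H n).map g.toLinearMap := by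
          have h3 : (n : ℚ) • coeff n (Bser w) = (n : S) * coeff n (Bser w) := by
            rw [Algebra.smul_def]
            simp
          rw [h3, h1]
          apply Submodule.sum_mem
          intro k hk
          have hk' := Finset.mem_range.mp hk
          obtain ⟨y, hy, hy2⟩ := ih k hk'
          rw [coeff_sum_sc, ← hgp (n - k) (by omega), ← hy2, mul_smul_comm]
          apply Submodule.smul_mem
          refine ⟨y * p (n - k), ?_, map_mul g _ _⟩
          have := hH.mul_mem hy (hpH (n - k))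
          rwa [Nat.add_sub_cancel' (by omega : k ≤ n)] at this
        have hn0 : (n : ℚ) ≠ 0 := by positivity
        have h4 := Submodule.smul_mem _ ((n : ℚ)⁻¹) h2
        rwa [smul_smul, inv_mul_cancel₀ hn0, one_smul] at h4
  have hB0 : ∀ n, d < n → coeff n (Bser w) = 0 := by
    intro n hn
    obtain ⟨y, hy, hy2⟩ := hB n
    rw [← hy2, hH.eq_zero hn hy]
    exact map_zero g
  have hBT : ∀ n ≤ d, coeff n (Bser w) = g (coeff n (scEv c (KGr.toddPoly d))) := by
    intro n hn
    have h1 := (LD_scEv_toddPoly c p hp).map (g : R →+* S)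
    have h2 := LD_Bser d w
    have h3 := h2.unique h1 ?_ ?_ ?_ n hn
    · rw [h3, coeff_map]
      rfl
    · intro k hk
      rw [coeff_sum_sc, coeff_map, coeff_mk]
      rcases Nat.eq_zero_or_pos k with rfl | hpos
      · rw [coeff_zero_Lbet, zero_smul, zero_smul, map_zero]
      · rw [← hgp k hpos]
        exact (map_smul g _ _).symm
    · rw [coeff_sum_sc, coeff_zero_Lbet, zero_smul]
    · rw [coeff_zero_Bser, coeff_map, coeff_zero_scEv_toddPoly, map_one]
  obtain ⟨M₀, hM₀⟩ := exists_sum_coeff_Bser w hw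
  rw [← hM₀ (max M₀ (d + 1)) (by omega), aeval_eq_sum hH c hc, map_sum]
  symm
  rw [Finset.sum_congr rfl (fun n hn => (hBT n (by
    have := Finset.mem_range.mp hn; omega)).symm)]
  symm
  apply Finset.sum_subset
  · intro i hi
    simp only [Finset.mem_range] at hi ⊢
    omega
  · intro n _ hn
    apply hB0
    simpa using hn

/-- vectors killed by an operator with distinct eigenvalues -/
lemma eq_zero_of_sum_eq_zero {V : Type*} [AddCommGroup V] [Module ℚ V] (T : V →ₗ[ℚ] V)
    (e : ℕ → ℚ) (he : ∀ m n, m ≠ n → e m ≠ e n) (M : ℕ) (c : ℕ → V)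
    (hc : ∀ n < M, T (c n) = e n • c n) (hsum : ∑ n ∈ Finset.range M, c n = 0) :
    ∀ n < M, c n = 0 := by
  induction M generalizing c with
  | zero => intro n hn; omega
  | succ M ih =>
    have h1 : ∑ n ∈ Finset.range M, (e n - e M) • c n = 0 := by
      have h2 := congrArg T hsum
      rw [map_zero, map_sum, Finset.sum_congr rfl (fun n hn => hc n (Finset.mem_range.mp hn)),
        Finset.sum_range_succ] at h2
      rw [Finset.sum_range_succ] at hsum
      have h3 : ∑ n ∈ Finset.range M, (e n - e M) • c n =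
          (∑ n ∈ Finset.range M, e n • c n + e M • c M) -
            e M • (∑ n ∈ Finset.range M, c n + c M) := by
        rw [smul_add, Finset.smul_sum]
        simp only [sub_smul, Finset.sum_sub_distrib]
        abel
      rw [h3, h2, hsum, smul_zero, sub_zero]
    have h4 : ∀ n < M, c n = 0 := by
      intro n hn
      have h5 := ih (fun n => (e n - e M) • c n) (by
        intro k hk
        rw [map_smul, hc k (by omega), smul_comm]) h1 n hn
      exact (smul_eq_zero_iff_right (sub_ne_zero.mpr (he n M (by omega)))).mp h5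
    intro n hn
    rcases Nat.lt_succ_iff_lt_or_eq.mp hn with h | rfl
    · exact h4 n h
    · rw [Finset.sum_range_succ, Finset.sum_eq_zero (fun k hk => h4 k (Finset.mem_range.mp hk)),
        zero_add] at hsum
      exact hsum

end graded

end Groth.Agent.Krr.H491.ToddAlg
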