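import Groth.Agent.Krr.H491.KQ
import Groth.Agent.Krr.H491.ToddAlg

/-!
# The Todd class `KGr.tdK`: multiplicativity, values through nilpotent roots
-/

set_option autoImplicit false
universe v

open scoped TensorProduct
open LambdaRing KGr

namespace Groth.Agent.Krr.H491.Todd

open Groth.Agent.Books.Lambda1 Groth.Agent.Books.Lambda2 Groth.Agent.Books.Lambda3
open Groth.Agent.Krr.H493.AdamsDiff Groth.Agent.Krr.H493.ChK Groth.Agent.Krr.H493.ChBij
open Groth.Agent.Krr.H493.Newton
open Groth.Agent.Krr.H500.GrK Groth.Agent.Krr.H493.GrBasis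
open Groth.Agent.Krr.H491.KQ Groth.Agent.Krr.H491.LogDer Groth.Agent.Krr.H491.NilEval
open Groth.Agent.Krr.H491.ToddAlg

variable {K : Type v} [CommRing K] [LambdaRing.LambdaOps K] (P : LambdaRing.PosStructure K)

lemma isGr {d : ℕ} (hd : gammaFiltration P (d + 1) = ⊥) : IsGr (R := Gr P) d (HomG P) where
  one_mem := one_mem_HomG P
  mul_mem := mul_mem_HomG P
  eq_zero := fun hn _ hz => eq_zero_of_mem_HomG hd hn hz

/-- the `n`-th power sum of the Chern roots -/
noncomputable def ps (n : ℕ) (x : K) : Gr P := grK P (n : ℤ) (dl P n x)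

variable (hK : HasSplitting K P)

lemma ps_mem (n : ℕ) (x : K) : ps P n x ∈ HomG P n := grK_mem_HomG P n _

include hK in
lemma ps_add (n : ℕ) (x y : K) : ps P n (x + y) = ps P n x + ps P n y := by
  rw [ps, map_add, grK_add, ps, ps]
  · exact mem_QF_of_mem (by simpa using dl_mem P hK n x)
  · exact mem_QF_of_mem (by simpa using dl_mem P hK n y)

lemma ps_eq_smul_ch (n : ℕ) (x : K) : ps P n x = (n.factorial : ℚ) • ch P hK n x := by
  have h2 : (n.factorial : ℚ) ≠ 0 := by positivity
  rw [ch_apply, smul_smul, one_div, mul_inv_cancel₀ h2, one_smul]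
  rfl

variable {d : ℕ} (hd : gammaFiltration P (d + 1) = ⊥)

include hK hd in
/-- **the Todd class is multiplicative on sums** -/
theorem tdK_add (x y : K) : tdK P d (x + y) = tdK P d x * tdK P d y := by
  refine todd_mul (isGr P hd) (fun i : Fin d => chern P (i.1 + 1) x)
    (fun i : Fin d => chern P (i.1 + 1) y) (fun i : Fin d => chern P (i.1 + 1) (x + y))
    (fun i => chern_mem_HomG P _ x) (fun i => chern_mem_HomG P _ y)
    (fun i => chern_mem_HomG P _ (x + y)) ?_
  intro n h1 h2
  rw [aeval_psumPoly P hK d n h1 h2, aeval_psumPoly P hK d n h1 h2,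
    aeval_psumPoly P hK d n h1 h2]
  exact ps_add P hK n x y

/-- the Todd class through nilpotent roots -/
theorem map_tdK {S : Type*} [CommRing S] [Algebra ℚ S] (g : Gr P →ₐ[ℚ] S) {ι : Type*}
    [Fintype ι] (w : ι → S) (hw : ∀ i, IsNilpotent (w i)) (x : K)
    (hgp : ∀ n, 1 ≤ n → g (ps P n x) = ∑ i, w i ^ n) (hK : HasSplitting K P)
    (hd : gammaFiltration P (d + 1) = ⊥) :
    g (tdK P d x) = ∏ i, ev (w i) (hw i) bet :=
  map_todd_eq_prod (isGr P hd) (fun i : Fin d => chern P (i.1 + 1) x)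
    (fun i => chern_mem_HomG P _ x) g w hw (fun n => ps P n x) (fun n => ps_mem P n x)
    (fun n h1 h2 => aeval_psumPoly P hK d n h1 h2 x) hgp

include hK hd in
/-- the Todd class of a natural number is `1` -/
lemma tdK_natCast (m : ℕ) : tdK P d (m : K) = 1 := by
  have h := map_tdK (S := Gr P) P (AlgHom.id ℚ (Gr P)) (ι := Empty) (fun i => i.elim)
    (fun i => i.elim) (m : K) (fun n hn => ?_) hK hd
  · simpa using h
  · have h1 : dl P n (m : K) = 0 := by
      have h2 : (m : K) = m • (1 : K) := by simp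
      rw [h2, map_nsmul, dl_line P n 1 (isLine_one P), sub_self, zero_pow (by omega), smul_zero]
    rw [ps, h1]
    simp [grK_zero]

include hK hd in
lemma tdK_mul_tdK_neg (x : K) : tdK P d x * tdK P d (-x) = 1 := by
  have h := tdK_add P hK hd x (-x)
  have h0 := tdK_natCast P hK hd 0
  rw [add_neg_cancel, ← Nat.cast_zero, h0] at h
  exact h.symm

include hK hd in
lemma tdK_neg_mul_tdK (x : K) : tdK P d (-x) * tdK P d x = 1 := by
  have h := tdK_add P hK hd (-x) x
  have h0 := tdK_natCast P hK hd 0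
  rw [neg_add_cancel, ← Nat.cast_zero, h0] at h
  exact h.symm

include hK hd in
lemma isUnit_tdK (x : K) : IsUnit (tdK P d x) :=
  ⟨⟨tdK P d x, tdK P d (-x), tdK_mul_tdK_neg P hK hd x, tdK_neg_mul_tdK P hK hd x⟩, rfl⟩

end Groth.Agent.Krr.H491.Todd
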